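import Mathlib

/-!
# Idempotent matrices with residue of rank one

Over a local ring an idempotent matrix whose residue vanishes is zero, and one whose residue has
rank one is a product of a column and a row, so that traces against it are multiplicative.
-/

set_option autoImplicit false

namespace Cfsg.Agent.Lib.EqualDegree

open Matrix

variable {S : Type*} [CommRing S] [IsLocalRing S] {m : Type*} [Fintype m] [DecidableEq m]

/-- An idempotent matrix with zero residue is zero. -/
theorem idem_eq_zero {E : Matrix m m S} (hE : E * E = E)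
    (h : E.map (IsLocalRing.residue S) = 0) : E = 0 := by
  have h1 : (IsLocalRing.residue S).mapMatrix (1 - E) = 1 := by
    rw [map_sub, map_one, RingHom.mapMatrix_apply, h, sub_zero]
  have hu : IsUnit (1 - E) := by
    rw [Matrix.isUnit_iff_isUnit_det]
    have h2 : IsLocalRing.residue S (1 - E).det = 1 := by
      rw [RingHom.map_det, h1, Matrix.det_one]
    exact (IsLocalRing.residue_ne_zero_iff_isUnit _).1 (by rw [h2]; exact one_ne_zero)
  have h0 : E * (1 - E) = 0 := by rw [mul_sub, mul_one, hE, sub_self]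
  exact hu.mul_left_eq_zero.1 h0

/-- An idempotent matrix whose residue is a nonzero product of a column and a row is one. -/
theorem exists_rankOne {E : Matrix m m S} (hE : E * E = E)
    {v l : m → IsLocalRing.ResidueField S}
    (h : ∀ i j, IsLocalRing.residue S (E i j) = v i * l j)
    (hne : E.map (IsLocalRing.residue S) ≠ 0) :
    ∃ x y : m → S, E = vecMulVec x y ∧ y ⬝ᵥ x = 1 := by
  obtain ⟨s, t, hst⟩ : ∃ s t, IsLocalRing.residue S (E s t) ≠ 0 := by
    by_contra hc
    push Not at hc
    exact hne (Matrix.ext fun i j => by simpa using hc i j)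
  obtain ⟨w, hw⟩ := (IsLocalRing.residue_ne_zero_iff_isUnit _).1 hst
  set x : m → S := fun i => E i t
  set y : m → S := fun j => (↑w⁻¹ : S) * E s j
  have hyx : y ⬝ᵥ x = 1 := by
    have h2 : ∑ j, E s j * E j t = E s t := by
      conv_rhs => rw [← hE]
      rfl
    simp only [dotProduct, x, y, mul_assoc]
    rw [← Finset.mul_sum, h2, ← hw, Units.inv_mul]
  set F := vecMulVec x y with hF
  have hEF : E * F = F := by
    rw [hF, Matrix.mul_vecMulVec]
    congr 1
    funext i
    show ∑ j, E i j * E j t = E i t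
    conv_rhs => rw [← hE]
    rfl
  have hFE : F * E = F := by
    rw [hF, Matrix.vecMulVec_mul]
    congr 1
    funext j
    show ∑ i, ↑w⁻¹ * E s i * E i j = ↑w⁻¹ * E s j
    conv_rhs => rw [← hE]
    simp only [Matrix.mul_apply, Finset.mul_sum, mul_assoc]
  have hFF : F * F = F := by
    rw [hF, Matrix.vecMulVec_mul_vecMulVec, hyx, one_smul]
  refine ⟨x, y, sub_eq_zero.1 (idem_eq_zero (E := E - F) ?_ ?_), hyx⟩
  · rw [sub_mul, mul_sub, mul_sub, hE, hEF, hFE, hFF, sub_self, sub_zero]
  · ext i j
    have hwi : IsLocalRing.residue S (↑w⁻¹ : S) = (v s * l t)⁻¹ := by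
      rw [← h, map_units_inv, hw]
    rw [hw] at *
    simp only [hF, x, y, Matrix.map_apply, Matrix.sub_apply, Matrix.zero_apply, vecMulVec_apply,
      map_sub, map_mul, h, hwi]
    rw [h] at hst
    calc v i * l j - v i * l t * ((v s * l t)⁻¹ * (v s * l j))
        = v i * l j * (1 - (v s * l t) * (v s * l t)⁻¹) := by ring
      _ = 0 := by rw [mul_inv_cancel₀ hst, sub_self, mul_zero]

/-- Traces against a rank one idempotent are multiplicative. -/
theorem trace_rankOne_mul {x y : m → S} (hyx : y ⬝ᵥ x = 1) (A B : Matrix m m S) :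
    (vecMulVec x y * A * vecMulVec x y * B * vecMulVec x y).trace =
      (vecMulVec x y * A).trace * (vecMulVec x y * B).trace := by
  have h1 : ∀ C : Matrix m m S, vecMulVec x y * C * vecMulVec x y =
      (vecMulVec x y * C).trace • vecMulVec x y := fun C => by
    rw [Matrix.vecMulVec_mul, Matrix.vecMulVec_mul_vecMulVec, Matrix.trace_vecMulVec,
      dotProduct_comm x, Matrix.vecMulVec_smul]
  rw [mul_assoc (vecMulVec x y * A * vecMulVec x y) B, h1, smul_mul_assoc, Matrix.trace_smul,
    smul_eq_mul]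
  congr 1
  rw [← mul_assoc, h1, Matrix.trace_smul, smul_eq_mul, Matrix.trace_vecMulVec, dotProduct_comm x,
    hyx, mul_one]

/-- Complete orthogonal idempotent matrices of size `d` over a field, in classes of at least `d`
which vanish together, live in one class and have rank one. -/
theorem exists_class {κ : Type*} [Field κ] {d n : ℕ} (e : Fin n → ℕ)
    {F : (Σ a, Fin (e a)) → Matrix (Fin d) (Fin d) κ} (hF : CompleteOrthogonalIdempotents F)
    (hclass : ∀ q q' : Σ a, Fin (e a), q.1 = q'.1 → F q = 0 → F q' = 0) (hle : ∀ a, d ≤ e a)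
    (hd : 0 < d) :
    ∃ a, (∀ q, q.1 ≠ a → F q = 0) ∧
      ∀ q, q.1 = a → F q ≠ 0 ∧ ∃ v l : Fin d → κ, ∀ i j, F q i j = v i * l j := by
  classical
  haveI : Nonempty (Fin d) := ⟨⟨0, hd⟩⟩
  obtain ⟨q₀, hq₀⟩ : ∃ q, F q ≠ 0 := by
    by_contra hc
    push Not at hc
    exact one_ne_zero (hF.complete.symm.trans (Finset.sum_eq_zero fun q _ => hc q))
  set a := q₀.1 with ha
  have hne : ∀ s : Fin (e a), F ⟨a, s⟩ ≠ 0 := fun s h => hq₀ (hclass ⟨a, s⟩ q₀ rfl h)
  have hex : ∀ s : Fin (e a), ∃ w : Fin d → κ, w ≠ 0 ∧ F ⟨a, s⟩ *ᵥ w = w := fun s => by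
    obtain ⟨u, hu⟩ : ∃ u, F ⟨a, s⟩ *ᵥ u ≠ 0 := by
      by_contra hc
      push Not at hc
      exact hne s (Matrix.ext_iff_mulVec.2 fun u => by simp [hc u])
    exact ⟨_, hu, by rw [Matrix.mulVec_mulVec, (hF.idem _).eq]⟩
  choose w hw0 hw using hex
  have hkill : ∀ q (s : Fin (e a)), q ≠ ⟨a, s⟩ → F q *ᵥ w s = 0 := fun q s hq => by
    rw [← hw s, Matrix.mulVec_mulVec, hF.ortho hq, Matrix.zero_mulVec]
  have hli : LinearIndependent κ w := by
    rw [Fintype.linearIndependent_iff]
    intro c hc s
    have := congrArg (F ⟨a, s⟩ *ᵥ ·) hc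
    simp only [Matrix.mulVec_sum, Matrix.mulVec_smul, Matrix.mulVec_zero] at this
    rw [Finset.sum_eq_single s (fun b _ hb => by
      rw [hkill _ b (fun h => hb (by simpa using (Sigma.mk.inj_iff.1 h).2.symm)), smul_zero])
      (by simp), hw] at this
    exact (smul_eq_zero.1 this).resolve_right (hw0 s)
  have hcard : Fintype.card (Fin (e a)) = Module.finrank κ (Fin d → κ) := by
    rw [Module.finrank_fintype_fun_eq_card]
    refine le_antisymm ?_ (by simpa using hle a)
    simpa using hli.fintype_card_le_finrank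
  haveI : Nonempty (Fin (e a)) := ⟨⟨0, hd.trans_le (hle a)⟩⟩
  let b := basisOfLinearIndependentOfCardEqFinrank hli hcard
  have hb : ∀ s, b s = w s := fun s => by simp [b]
  refine ⟨a, fun q hq => Matrix.toLin'.injective (b.ext fun s => ?_), ?_⟩
  · rw [map_zero, LinearMap.zero_apply, Matrix.toLin'_apply, hb]
    exact hkill q s fun h => hq (by rw [h])
  rintro ⟨a', s⟩ (rfl : a' = a)
  refine ⟨hne s, w s, fun j => b.repr (Pi.single j 1) s, fun i j => ?_⟩
  have h1 : F ⟨a, s⟩ *ᵥ Pi.single j 1 = b.repr (Pi.single j 1) s • w s := by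
    conv_lhs => rw [← b.sum_repr (Pi.single j 1)]
    rw [Matrix.mulVec_sum, Finset.sum_eq_single s (fun r _ hr => by
      rw [Matrix.mulVec_smul, hb, hkill _ r (fun h => hr (by simpa using (Sigma.mk.inj_iff.1 h).2.symm)),
        smul_zero]) (by simp), Matrix.mulVec_smul, hb, hw]
  have := congrFun h1 i
  simpa [mul_comm] using this

end Cfsg.Agent.Lib.EqualDegree
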