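import Mathlib
import Cfsg.Agent.Lib.EqualDegree.RankOne
import Cfsg.Agent.Lib.BlockAlg.Brauer
import Cfsg.Agent.Lib.Star.Basic
import Cfsg.Agent.Lib.SmallFaithful.Lattice

/-!
# Products of values in a block all of whose degrees are equal

The reductions of the members of such a block are simple, so the block is a matrix algebra over a
commutative ring: products of two values are, modulo any power of `p`, values at one element of
the group ring.
-/

set_option autoImplicit false
set_option linter.unusedSectionVars false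
set_option linter.style.haveILetI false
set_option maxHeartbeats 1600000

namespace Cfsg.Agent.Lib.EqualDegree

open Cfsg MonoidAlgebra Matrix
open Cfsg.Agent.Lib
open Cfsg.Agent.Lib.Blocks
open Cfsg.Agent.Lib.BlockAlg
open Cfsg.Agent.Lib.Star (LocalMod toMod isNilpotent_toMod)

universe u

attribute [local instance] Classical.propDecidable

variable {G : Type u} [Group G] [Fintype G] {p : ℕ} [Fact p.Prime] {M : Ideal AlgInt} [M.IsPrime]

/-- A valuation ring of `ℂ` above the local ring at `M`. -/
def Dominates (A : ValuationSubring ℂ) (M : Ideal AlgInt) [M.IsPrime] : Prop :=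
  ∀ x : localRing M, (x : ℂ) ∈ A ∧ (MemLocalIdeal M (x : ℂ) → (x : ℂ) ∈ A.nonunits)

theorem exists_dominates (M : Ideal AlgInt) [M.IsPrime] :
    ∃ A : ValuationSubring ℂ, Dominates A M := by
  obtain ⟨A, hle, hA⟩ := Ideal.image_subset_nonunits_valuationSubring
    (IsLocalRing.maximalIdeal (localRing M)) (IsLocalRing.maximalIdeal.isMaximal _).ne_top
  exact ⟨A, fun x => ⟨hle x.2, fun hx => hA ⟨x, mem_maximalIdeal_iff.2 hx, rfl⟩⟩⟩

/-- A reduction of coefficients is onto. -/
theorem mapRingHom_surjective {R S : Type*} [CommRing R] [CommRing S] {f : R →+* S}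
    (hf : Function.Surjective f) :
    Function.Surjective (MonoidAlgebra.mapRingHom G f) := fun z => by
  induction z using MonoidAlgebra.induction_linear with
  | zero => exact ⟨0, map_zero _⟩
  | add x y hx hy =>
    obtain ⟨a, rfl⟩ := hx
    obtain ⟨b, rfl⟩ := hy
    exact ⟨a + b, map_add _ _ _⟩
  | single g r =>
    obtain ⟨a, rfl⟩ := hf r
    exact ⟨single g a, by simp⟩

variable (hM : IsPModular p M) {B : Set (IrrCharacter G)} (hB : IsPBlock M B) {d : ℕ}
  (hd : ∀ χ ∈ B, charDegree ((χ : IrrCharacter G) : G → ℂ) = d)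

include hM hB hd in
/-- When all degrees are `d`, no simple module of the block is smaller. -/
theorem le_simple [M.IsMaximal] {m : ℕ} (e : Fin m → ℕ)
    (P : Alg hB →ₐ[Residue M] ∀ a, Matrix (Fin (e a)) (Fin (e a)) (Residue M))
    (he : ∀ a, 0 < e a) (hP : Function.Surjective P) (hker : ∀ x, P x = 0 → IsNilpotent x)
    (a : Fin m) : d ≤ e a := by
  obtain ⟨-, φ, hφ, -, hmult⟩ := exists_dual hM hB e P he hP hker
  have hp1 : ¬ p ∣ Nat.card (⊥ : Subgroup G) := by
    rw [Subgroup.card_bot]
    exact (Fact.out : p.Prime).not_dvd_one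
  obtain ⟨c, hc⟩ := exists_int_combination hM hB (hφ a) fun t => ⟨_, by
    rw [hmult a t]; exact (Int.cast_natCast _).symm⟩
  have h1 : φ a 1 = (e a : ℂ) := by
    rw [← mult_bot (φ a) (⟨⊥, 1, hp1⟩ : LinPair p G) rfl, hmult]
    congr 1
    rw [linIdem_trivial hM hB hp1, map_one, Pi.one_apply, Matrix.rank_one, Fintype.card_fin]
  have h2 : φ a 1 = ((∑ χ ∈ B.toFinset, c χ : ℤ) : ℂ) * d := by
    rw [hc, Finset.sum_apply, Int.cast_sum, Finset.sum_mul]
    refine Finset.sum_congr rfl fun χ hχ => ?_
    rw [Pi.smul_apply, smul_eq_mul, BrauerFeit.pRegularPart_apply,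
      if_neg (by rw [orderOf_one]; exact (Fact.out : p.Prime).not_dvd_one),
      ← hd χ (Set.mem_toFinset.1 hχ), (HeightZero.charDegree_eq χ).1]
  rw [h1] at h2
  have h3 : (e a : ℤ) = (∑ χ ∈ B.toFinset, c χ) * d := by exact_mod_cast h2
  refine Nat.le_of_dvd (he a) (Int.natCast_dvd_natCast.1 ⟨∑ χ ∈ B.toFinset, c χ, ?_⟩)
  rw [h3, mul_comm]

variable {A : ValuationSubring ℂ} (hA : Dominates A M)

include hM hB hd hA in
/-- Modulo any power of `p`, products of values are values at one element of the group ring. -/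
theorem exists_product [M.IsMaximal] (N : ℕ) (g h : G) :
    ∃ c : G → ℂ, (∀ x, c x ∈ localRing M) ∧ ∀ χ ∈ B, ∃ a ∈ A,
      (χ : G → ℂ) g * (χ : G → ℂ) h - ∑ x : G, c x * (χ : G → ℂ) x = (p : ℂ) ^ N * a := by
  have := Contrib.isAlgClosed_residue (p := p) hM
  obtain ⟨m, e, P, he, hP, hker⟩ := exists_semisimple_quotient (k := Residue M) (A := Alg hB)
  have hle := le_simple hM hB hd e P he hP hker
  set n := N + 1 with hn
  -- the block algebra modulo `p ^ n`
  set eR : MonoidAlgebra (localRing M) G :=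
    ((blockIdem M hB : RCenter M G) : MonoidAlgebra (localRing M) G) with heR
  let ebar : MonoidAlgebra (LocalMod M p n) G := toMod M p n G eR
  have htmSurj : Function.Surjective (toMod M p n G) :=
    mapRingHom_surjective Ideal.Quotient.mk_surjective
  have hec : ∀ z, ebar * z = z * ebar := fun z => by
    obtain ⟨z, rfl⟩ := htmSurj z
    simp only [ebar, ← map_mul]
    exact congrArg _ (Subalgebra.mem_center_iff.1 (blockIdem M hB).2 z).symm
  have he2 : ebar * ebar = ebar := by
    simp only [ebar, ← map_mul, eR, ← MulMemClass.coe_mul, blockIdem_mul_self hB]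
  let I : Ideal (MonoidAlgebra (LocalMod M p n) G) :=
    { carrier := {x | ebar * x = 0}
      add_mem' := fun {x y} hx hy => by
        show ebar * (x + y) = 0
        rw [mul_add, hx, hy, add_zero]
      zero_mem' := mul_zero _
      smul_mem' := fun c x hx => by
        show ebar * (c * x) = 0
        rw [← mul_assoc, hec c, mul_assoc, hx, mul_zero] }
  haveI hI : I.IsTwoSided := ⟨fun c hx => show ebar * (_ * c) = 0 by
    rw [← mul_assoc, show ebar * _ = 0 from hx, zero_mul]⟩
  let T := MonoidAlgebra (LocalMod M p n) G ⧸ I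
  let mkT : MonoidAlgebra (localRing M) G →+* T := (Ideal.Quotient.mk I).comp (toMod M p n G)
  have hmkT : Function.Surjective mkT := Ideal.Quotient.mk_surjective.comp htmSurj
  have hpmax : (p : localRing M) ^ n ∈ IsLocalRing.maximalIdeal (localRing M) := by
    refine Ideal.pow_mem_of_mem _ ?_ n N.succ_pos
    rw [mem_maximalIdeal_iff]
    exact_mod_cast (memLocalIdeal_natCast_iff hM p).2 dvd_rfl
  let res : LocalMod M p n →+* Residue M := Ideal.Quotient.lift _ (residue M) fun x hx =>
    (IsLocalRing.residue_eq_zero_iff x).2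
      ((Ideal.span_singleton_le_iff_mem _).2 hpmax hx)
  let qres : MonoidAlgebra (LocalMod M p n) G →+* MonoidAlgebra (Residue M) G :=
    MonoidAlgebra.mapRingHom G res
  have hqres : ∀ z, qres (toMod M p n G z) = toF M G z := fun z => by
    induction z using MonoidAlgebra.induction_linear with
    | zero => simp
    | add x y hx hy => simp only [map_add, hx, hy]
    | single g r => simp [qres, res]
  let π : T →+* Alg hB := Ideal.Quotient.lift I ((proj hB).toRingHom.comp qres) fun x hx => by
    show proj hB (qres x) = 0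
    rw [proj_eq_zero_iff, show idem hB = qres ebar from (hqres _).symm, ← map_mul,
      show ebar * x = 0 from hx, map_zero]
  have hπ : ∀ z, π (mkT z) = proj hB (toF M G z) := fun z => congrArg (proj hB) (hqres z)
  have hπs : Function.Surjective π := fun y => by
    obtain ⟨z, rfl⟩ := proj_surjective hB y
    obtain ⟨a, rfl⟩ := mapRingHom_surjective (f := residue M) IsLocalRing.residue_surjective z
    exact ⟨mkT a, hπ a⟩
  have hπk : ∀ x, π x = 0 → IsNilpotent x := fun x hx => by
    obtain ⟨a, rfl⟩ := hmkT x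
    rw [hπ, proj_eq_zero_iff, idem, ← map_mul] at hx
    have hnil := isNilpotent_toMod (G := G) hM (a := eR * a) (fun g => by
      have h := congrArg (fun z : MonoidAlgebra (Residue M) G => z.coeff g) hx
      simpa only [toF, MonoidAlgebra.mapRingHom_apply, coeff_map, Finsupp.mapRange_apply,
        coeff_zero, Finsupp.coe_zero, Pi.zero_apply] using h) n
    have h1 : mkT eR = 1 := by
      rw [← sub_eq_zero, ← map_one mkT, ← map_sub]
      refine Ideal.Quotient.eq_zero_iff_mem.2 ?_
      show ebar * toMod M p n G (eR - 1) = 0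
      rw [map_sub, map_one, mul_sub, mul_one, show toMod M p n G eR = ebar from rfl, he2, sub_self]
    have h2 : mkT a = Ideal.Quotient.mk I (toMod M p n G (eR * a)) := by
      rw [show Ideal.Quotient.mk I (toMod M p n G (eR * a)) = mkT (eR * a) from rfl, map_mul, h1,
        one_mul]
    rw [h2]
    exact hnil.map _
  let Q : T →+* ∀ a, Matrix (Fin (e a)) (Fin (e a)) (Residue M) := P.toRingHom.comp π
  have hQs : Function.Surjective Q := hP.comp hπs
  have hQk : ∀ x, Q x = 0 → IsNilpotent x := fun x hx => by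
    obtain ⟨j, hj⟩ := hker _ hx
    exact IsNilpotent.of_pow (hπk (x ^ j) (by rw [map_pow, hj]))
  -- lifted matrix units
  let D : (Σ a, Fin (e a)) → (∀ a, Matrix (Fin (e a)) (Fin (e a)) (Residue M)) :=
    fun q => Pi.single q.1 (Matrix.single q.2 q.2 1)
  have hD : CompleteOrthogonalIdempotents D :=
    { idem := fun q => by
        show D q * D q = D q
        rw [← Pi.single_mul, Matrix.single_mul_single_same, one_mul]
      ortho := fun q r hqr => by
        obtain ⟨a, s⟩ := q
        obtain ⟨b, t⟩ := r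
        show Pi.single (M := fun a => Matrix (Fin (e a)) (Fin (e a)) (Residue M)) a
          (Matrix.single s s 1) * Pi.single b (Matrix.single t t 1) = 0
        by_cases hab : a = b
        · subst hab
          rw [← Pi.single_mul, Matrix.single_mul_single_of_ne _ _ _ _ (fun h => hqr (by rw [h])),
            Pi.single_zero]
        · funext c
          by_cases hc : c = a
          · subst hc; simp [hab]
          · simp [hc]
      complete := by
        funext a
        rw [Fintype.sum_sigma, Finset.sum_apply, Finset.sum_eq_single a]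
        · ext i j
          simp [D, Matrix.sum_apply, Matrix.single_apply, Matrix.one_apply, ite_and]
        · intro b _ hb
          simp [D, hb.symm]
        · exact fun h => absurd (Finset.mem_univ _) h }
  obtain ⟨E, hE, hQE⟩ := CompleteOrthogonalIdempotents.lift_of_isNilpotent_ker Q
    (fun x hx => hQk x hx) hD fun q => RingHom.mem_range.2 (hQs _)
  have hQE' : ∀ q, Q (E q) = D q := fun q => congrFun hQE q
  let ii : Fin m → T := fun a => E ⟨a, ⟨0, he a⟩⟩
  have hequiv : ∀ q : Σ a, Fin (e a), IdemEquiv (E q) (ii q.1) := by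
    rintro ⟨a, s⟩
    refine IdemEquiv.of_map Q hQs hQk (hE.idem _) (hE.idem _)
      ⟨Pi.single a (Matrix.single s ⟨0, he a⟩ 1), Pi.single a (Matrix.single ⟨0, he a⟩ s 1), ?_, ?_⟩
    · rw [hQE', ← Pi.single_mul, Matrix.single_mul_single_same, one_mul]
    · show _ = Q (E ⟨a, ⟨0, he a⟩⟩)
      rw [hQE', ← Pi.single_mul, Matrix.single_mul_single_same, one_mul]
  choose X Y hXY hYX using hequiv
  let G' : G → T := fun g => mkT (single g 1)
  let cT : T := ∑ a : Fin m, ∑ s : Fin (e a), ∑ t : Fin (e a),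
    ii a * (Y ⟨a, s⟩ * G' g * X ⟨a, s⟩) * ii a * (Y ⟨a, t⟩ * G' h * X ⟨a, t⟩) * ii a
  obtain ⟨z, hz⟩ := hmkT cT
  refine ⟨fun x => (z.coeff x : ℂ), fun x => Subtype.coe_prop _, fun χ hχ => ?_⟩
  -- an integral model of `χ` modulo `p ^ n`
  obtain ⟨d', ρ, hirr, hρ⟩ := χ.2
  haveI := hirr
  obtain ⟨R, hRtr, hW, -⟩ := SmallFaithful.exists_integral_model A ρ
  let ι : localRing M →+* A := (localRing M).subtype.codRestrict A.toSubring fun x => (hA x).1
  let ΦA : MonoidAlgebra (localRing M) G →+* Matrix (Fin d') (Fin d') A :=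
    liftNCRingHom ((algebraMap A _).comp ι) R fun x y => Algebra.commutes _ _
  have hΦs : ∀ g a, ΦA (single g a) = algebraMap A _ (ι a) * R g := fun g a => by
    simp [ΦA, liftNCRingHom, liftNC_single]
  have hdeg : (χ : G → ℂ) 1 = d' := by
    rw [← hρ]
    simp [Representation.character]
  have hdd : d' = d := by
    have := (HeightZero.charDegree_eq χ).1
    rw [hd χ hχ, hdeg] at this
    exact_mod_cast this.symm
  have hd0 : 0 < d' := Nat.pos_of_ne_zero fun h0 => Chars.irr_apply_one_ne_zero χ (by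
    rw [hdeg, h0, Nat.cast_zero])
  have htrA : ∀ z, (A.subtype.mapMatrix (ΦA z)).trace = ∑ x : G, (z.coeff x : ℂ) * (χ : G → ℂ) x := by
    intro z
    induction z using MonoidAlgebra.induction_linear with
    | zero => simp
    | add x y hx hy =>
      rw [map_add, map_add, Matrix.trace_add, hx, hy, ← Finset.sum_add_distrib]
      exact Finset.sum_congr rfl fun w _ => by simp [add_mul]
    | single g a =>
      rw [hΦs, Algebra.algebraMap_eq_smul_one, smul_one_mul,
        show A.subtype.mapMatrix (ι a • R g) = (a : ℂ) • A.subtype.mapMatrix (R g) by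
          ext i j
          rw [RingHom.mapMatrix_apply, RingHom.mapMatrix_apply, Matrix.map_apply, Matrix.smul_apply,
            Matrix.smul_apply, Matrix.map_apply, smul_eq_mul, smul_eq_mul, map_mul]
          rfl, Matrix.trace_smul, smul_eq_mul]
      have h2 : (A.subtype.mapMatrix (R g)).trace = (χ : G → ℂ) g := by
        rw [← hρ, hRtr g]
        simp [Matrix.trace]
      rw [h2, Finset.sum_eq_single g (fun x _ hx => by simp [coeff_single, Ne.symm hx]) (by simp)]
      simp [coeff_single]
  have hΦe : ΦA eR = 1 := by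
    suffices h1 : A.subtype.mapMatrix (ΦA eR) = 1 from
      Matrix.map_injective (f := A.subtype) Subtype.val_injective (by simpa using h1)
    obtain ⟨c, hc⟩ := hW (A.subtype.mapMatrix (ΦA eR)) fun g => by
      rw [← map_mul, ← map_mul]
      congr 1
      have h := Subalgebra.mem_center_iff.1 (blockIdem M hB).2 (single g (1 : localRing M))
      have h' := congrArg ΦA h
      rwa [map_mul, map_mul, hΦs, map_one, map_one, one_mul] at h'
    have htr := htrA eR
    have hsum : ∑ x : G, (eR.coeff x : ℂ) * (χ : G → ℂ) x = (χ : G → ℂ) 1 := by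
      have := sum_blockCoeff_mul_apply (B := B) χ 1
      simp only [mul_one, if_pos hχ] at this
      rw [← this]
      exact Finset.sum_congr rfl fun x _ => by rw [coe_coeff_blockIdem hB]
    rw [hc, Matrix.trace_smul, Matrix.trace_one, Fintype.card_fin, hsum, hdeg, smul_eq_mul] at htr
    rw [hc, (mul_eq_right₀ (Nat.cast_ne_zero.2 hd0.ne')).1 htr, one_smul]
  let J : Ideal A := Ideal.span {(p : A) ^ n}
  have hpA : ¬ IsUnit ((p : A) ^ n) := fun hu => by
    have h1 : IsUnit (p : A) := isUnit_of_dvd_unit (dvd_pow_self _ N.succ_ne_zero) hu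
    refine ValuationSubring.coe_mem_nonunits_iff.1 ?_ h1
    simpa using (hA (p : localRing M)).2 (by
      simpa using (memLocalIdeal_natCast_iff hM p).2 dvd_rfl)
  haveI : Nontrivial (A ⧸ J) := Ideal.Quotient.nontrivial_iff.2
    fun htop => hpA (Ideal.span_singleton_eq_top.1 htop)
  haveI : IsLocalRing (A ⧸ J) :=
    IsLocalRing.of_surjective' (Ideal.Quotient.mk J) Ideal.Quotient.mk_surjective
  let qA : A →+* A ⧸ J := Ideal.Quotient.mk J
  let ι' : LocalMod M p n →+* A ⧸ J := Ideal.Quotient.lift _ (qA.comp ι) fun x hx => by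
    obtain ⟨y, rfl⟩ := Ideal.mem_span_singleton'.1 hx
    refine Ideal.Quotient.eq_zero_iff_mem.2 (Ideal.mem_span_singleton'.2 ⟨ι y, ?_⟩)
    simp
  let Rq : G →* Matrix (Fin d') (Fin d') (A ⧸ J) :=
    (qA.mapMatrix : Matrix (Fin d') (Fin d') A →+* _).toMonoidHom.comp R
  let ΦQ : MonoidAlgebra (LocalMod M p n) G →+* Matrix (Fin d') (Fin d') (A ⧸ J) :=
    liftNCRingHom ((algebraMap (A ⧸ J) _).comp ι') Rq fun x y => Algebra.commutes _ _
  have hcomp : ∀ z, ΦQ (toMod M p n G z) = qA.mapMatrix (ΦA z) := fun z => by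
    induction z using MonoidAlgebra.induction_linear with
    | zero => simp
    | add x y hx hy => simp only [map_add, hx, hy]
    | single g a =>
      rw [show toMod M p n G (MonoidAlgebra.single g a) = MonoidAlgebra.single g
        (Ideal.Quotient.mk (Ideal.span {((p : localRing M)) ^ n}) a) by simp, hΦs, map_mul]
      have hQs' : ΦQ (MonoidAlgebra.single g (Ideal.Quotient.mk _ a)) =
          algebraMap (A ⧸ J) _ (qA (ι a)) * Rq g := by
        simp [ΦQ, liftNCRingHom, liftNC_single, ι']
      rw [hQs']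
      rw [Algebra.algebraMap_eq_smul_one, Algebra.algebraMap_eq_smul_one, smul_mul_assoc, one_mul]
      have hsm : qA.mapMatrix (ι a • (1 : Matrix (Fin d') (Fin d') A)) = qA (ι a) • 1 := by
        ext i j
        simp [Matrix.one_apply]
        split_ifs <;> simp
      rw [hsm, smul_mul_assoc, one_mul]
      rfl
  let ΦT : T →+* Matrix (Fin d') (Fin d') (A ⧸ J) := Ideal.Quotient.lift I ΦQ fun x hx => by
    have h1 : ΦQ ebar = 1 := by rw [hcomp, hΦe, map_one]
    have h2 := congrArg ΦQ (show ebar * x = 0 from hx)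
    rwa [map_mul, h1, one_mul, map_zero] at h2
  have hΦT : ∀ z, ΦT (mkT z) = qA.mapMatrix (ΦA z) := hcomp
  have htrT : ∀ z, (ΦT (mkT z)).trace = qA ((ΦA z).trace) := fun z => by
    rw [hΦT]
    simp [Matrix.trace]
  -- exactly one class survives
  let ρk := ((IsLocalRing.residue (A ⧸ J)).mapMatrix :
    Matrix (Fin d') (Fin d') (A ⧸ J) →+* _).comp ΦT
  have hiX : ∀ q : Σ a, Fin (e a), ii q.1 = Y q * E q * X q := fun q => by
    calc ii q.1 = ii q.1 * ii q.1 := (hE.idem _).eq.symm
      _ = _ := by simp only [← hXY q, ← hYX q, mul_assoc]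
  have hEX : ∀ q : Σ a, Fin (e a), E q = X q * ii q.1 * Y q := fun q => by
    calc E q = E q * E q := (hE.idem _).eq.symm
      _ = _ := by simp only [← hXY q, ← hYX q, mul_assoc]
  obtain ⟨a₀, hzero, hrank⟩ := exists_class e (hE.map ρk) (fun q q' hqq hq => by
    show ρk (E q') = 0
    rw [hEX q', ← hqq, hiX q]
    simp only [map_mul, show ρk (E q) = 0 from hq, mul_zero, zero_mul]) (fun a => hdd ▸ hle a) hd0
  have hidem : ∀ q, ΦT (E q) * ΦT (E q) = ΦT (E q) := fun q => by
    rw [← map_mul, (hE.idem q).eq]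
  have hvan : ∀ q : Σ a, Fin (e a), q.1 ≠ a₀ → ΦT (E q) = 0 := fun q hq =>
    idem_eq_zero (hidem q) (hzero q hq)
  obtain ⟨hne, v, l, hvl⟩ := hrank ⟨a₀, ⟨0, he a₀⟩⟩ rfl
  obtain ⟨x₁, y₁, hxy, hyx⟩ := exists_rankOne (hidem ⟨a₀, ⟨0, he a₀⟩⟩) hvl hne
  have hxy' : ΦT (ii a₀) = vecMulVec x₁ y₁ := hxy
  have hvi : ∀ a, a ≠ a₀ → ΦT (ii a) = 0 := fun a ha => hvan _ ha
  let f : G → (Σ a, Fin (e a)) → A ⧸ J := fun g q =>
    (ΦT (ii q.1) * ΦT (Y q * G' g * X q)).trace
  have hval : ∀ g, qA (ΦA (single g 1)).trace = ∑ s : Fin (e a₀), f g ⟨a₀, s⟩ := by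
    intro g
    rw [← htrT, show ΦT (mkT (single g 1)) = ΦT (∑ q, E q) * ΦT (G' g) by
      rw [hE.complete, map_one, one_mul], map_sum, Finset.sum_mul, Matrix.trace_sum,
      Fintype.sum_sigma, Finset.sum_eq_single a₀ (fun a _ ha => Finset.sum_eq_zero fun s _ => by
        rw [hvan ⟨a, s⟩ ha, zero_mul, Matrix.trace_zero]) (by simp)]
    refine Finset.sum_congr rfl fun s _ => ?_
    show _ = (ΦT (ii a₀) * ΦT (Y ⟨a₀, s⟩ * G' g * X ⟨a₀, s⟩)).trace
    rw [hEX, map_mul, map_mul, map_mul, map_mul, mul_assoc (ΦT (X ⟨a₀, s⟩)),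
      mul_assoc (ΦT (X ⟨a₀, s⟩)), Matrix.trace_mul_comm]
    simp only [mul_assoc]
  have hc : (ΦT cT).trace = (∑ s : Fin (e a₀), f g ⟨a₀, s⟩) * ∑ t : Fin (e a₀), f h ⟨a₀, t⟩ := by
    simp only [cT, map_sum, Matrix.trace_sum]
    rw [Finset.sum_eq_single a₀ (fun a _ ha => Finset.sum_eq_zero fun s _ =>
      Finset.sum_eq_zero fun t _ => by
        simp only [map_mul, hvi a ha, mul_zero, Matrix.trace_zero]) (by simp), Finset.sum_mul_sum]
    refine Finset.sum_congr rfl fun s _ => Finset.sum_congr rfl fun t _ => ?_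
    simp only [f, map_mul, hxy']
    rw [trace_rankOne_mul hyx]
  have key : qA ((ΦA (single g 1)).trace * (ΦA (single h 1)).trace - (ΦA z).trace) = 0 := by
    rw [map_sub, map_mul, hval, hval, ← htrT, hz, hc, sub_self]
  obtain ⟨a, ha⟩ := Ideal.mem_span_singleton'.1 (Ideal.Quotient.eq_zero_iff_mem.1 key)
  have hcoe : ∀ z, (((ΦA z).trace : A) : ℂ) = ∑ x : G, (z.coeff x : ℂ) * (χ : G → ℂ) x := fun z => by
    rw [← htrA]
    simp [Matrix.trace]
  have hone : ∀ g : G, ∑ x : G, (((MonoidAlgebra.single g (1 : localRing M)).coeff x : localRing M) : ℂ) *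
      (χ : G → ℂ) x = (χ : G → ℂ) g := fun g => by
    rw [Finset.sum_eq_single g (fun x _ hx => by simp [coeff_single, Ne.symm hx]) (by simp)]
    simp [coeff_single]
  refine ⟨(p : ℂ) * a, mul_mem (natCast_mem A.toSubring p) a.2, ?_⟩
  have hC := congrArg (fun x : A => (x : ℂ)) ha
  simp only [MulMemClass.coe_mul, AddSubgroupClass.coe_sub, hcoe, hone, SubmonoidClass.coe_pow] at hC
  rw [← hC, hn, pow_succ]
  push_cast
  ring

end Cfsg.Agent.Lib.EqualDegree
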