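import Mathlib
import Cfsg.Agent.Lib.EqualDegree.Product
import Cfsg.Agent.Lib.Blocks.RegOrth
import Cfsg.Agent.Lib.BrauerFeit.RegularPart

/-!
# Values of a block with equal degrees modulo the order of a defect group

The sums of products of two values over such a block are divisible by the order of a defect group,
and a block with this property on the regular elements has one irreducible Brauer character.
-/

set_option autoImplicit false
set_option linter.unusedSectionVars false

namespace Cfsg.Agent.Lib.EqualDegree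

open Cfsg
open Cfsg.Agent.Lib
open Cfsg.Agent.Lib.Blocks
open Cfsg.Agent.Lib.BlockAlg
open Cfsg.Agent.Lib.BrauerFeit (regCoef pRegularPart_apply)
open scoped ComplexConjugate Matrix

universe u

attribute [local instance] Classical.propDecidable

variable {G : Type u} [Group G] [Fintype G] {p : ℕ} [Fact p.Prime] {M : Ideal AlgInt} [M.IsPrime]
  {A : ValuationSubring ℂ} (hA : Dominates A M)

include hA in
theorem mem_of_localRing {z : ℂ} (hz : MemLocalRing M z) : z ∈ A := (hA ⟨z, hz⟩).1

include hA in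
theorem irr_mem (χ : IrrCharacter G) (g : G) : (χ : G → ℂ) g ∈ A :=
  mem_of_localRing hA (mem_localRing.1 (isIntegral_mem_localRing (Chars.irr_isIntegral χ g)))

variable (hM : IsPModular p M) {B : Set (IrrCharacter G)} (hB : IsPBlock M B)

include hA hM hB in
/-- Sums of products of values over a block with equal degrees are divisible by the order of a
defect group. -/
theorem sum_mul_mem [M.IsMaximal] {d : ℕ}
    (hd : ∀ χ ∈ B, charDegree ((χ : IrrCharacter G) : G → ℂ) = d) (g h : G) :
    (∑ χ ∈ B.toFinset, (χ : G → ℂ) g * (χ : G → ℂ) h) / (p : ℂ) ^ blockDefect p B ∈ A := by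
  set δ := blockDefect p B
  obtain ⟨c, hc, hprod⟩ := exists_product hM hB hd hA δ g h
  choose a ha hprod using hprod
  let a' : IrrCharacter G → ℂ := fun χ => if hχ : χ ∈ B then a χ hχ else 0
  obtain ⟨χ₀, hχ₀⟩ := isPBlock_nonempty hB
  have hd0 : d ≠ 0 := hd χ₀ hχ₀ ▸ (HeightZero.charDegree_eq χ₀).2
  have hdG : d ∣ Nat.card G := hd χ₀ hχ₀ ▸ (exists_degree_eq χ₀).2.2
  have hp0 : (p : ℂ) ≠ 0 := Nat.cast_ne_zero.2 (Fact.out : p.Prime).ne_zero
  have hG0 : (Nat.card G : ℂ) ≠ 0 := Chars.natCard_ne_zero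
  have hdC : (d : ℂ) ≠ 0 := Nat.cast_ne_zero.2 hd0
  have hsum : ∀ x : G, ∑ χ ∈ B.toFinset, (χ : G → ℂ) x =
      (Nat.card G : ℂ) / (d : ℂ) * blockCoeff B x⁻¹ := by
    intro x
    rw [blockCoeff_eq_sum, ← Finset.sum_filter, ← mul_assoc, Finset.mul_sum]
    refine Finset.sum_congr (by ext; simp) fun χ hχ => ?_
    have hχB : χ ∈ B := by simpa using hχ
    rw [Chars.irr_inv, Complex.conj_conj, ← (HeightZero.charDegree_eq χ).1, hd χ hχB]
    field_simp
  have hquot : ((Nat.card G : ℂ) / (d : ℂ)) / (p : ℂ) ^ δ ∈ A := by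
    have h1 : ((Nat.card G : ℕ) : ℂ) / ((d * p ^ δ : ℕ) : ℂ) ∈ localRing M := by
      refine natCast_div_mem_localRing hM (mul_ne_zero hd0 (pow_ne_zero _ hM.1.ne_zero))
        (Or.inl ?_)
      have hdef := BrauerFeit.factorization_add_defect (p := p) hχ₀
      have hle : blockHeight p B (χ₀ : G → ℂ) = 0 := by
        unfold blockHeight
        rw [Nat.sub_eq_zero_iff_le]
        refine le_csInf ⟨_, χ₀, hχ₀, rfl⟩ ?_
        rintro _ ⟨ψ, hψ, rfl⟩
        show _ ≤ (charDegree (ψ : G → ℂ)).factorization p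
        rw [hd χ₀ hχ₀, hd ψ hψ]
      rw [Nat.factorization_mul hd0 (pow_ne_zero _ hM.1.ne_zero), Finsupp.add_apply,
        hM.1.factorization_pow, Finsupp.single_eq_same]
      rw [hd χ₀ hχ₀, hle] at hdef
      omega
    have h2 : ((Nat.card G : ℂ) / (d : ℂ)) / (p : ℂ) ^ δ =
        ((Nat.card G : ℕ) : ℂ) / ((d * p ^ δ : ℕ) : ℂ) := by
      push_cast
      rw [div_div]
    rw [h2]
    exact mem_of_localRing hA h1
  have hmain : (∑ χ ∈ B.toFinset, (χ : G → ℂ) g * (χ : G → ℂ) h) / (p : ℂ) ^ δ =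
      (∑ χ ∈ B.toFinset, a' χ) +
        ∑ x : G, c x * blockCoeff B x⁻¹ * (((Nat.card G : ℂ) / (d : ℂ)) / (p : ℂ) ^ δ) := by
    rw [eq_comm, eq_div_iff (pow_ne_zero _ hp0), add_mul, Finset.sum_mul, Finset.sum_mul]
    have h1 : ∀ x : G, c x * blockCoeff B x⁻¹ * (((Nat.card G : ℂ) / (d : ℂ)) / (p : ℂ) ^ δ) *
        (p : ℂ) ^ δ = c x * ∑ χ ∈ B.toFinset, (χ : G → ℂ) x := fun x => by
      rw [hsum, mul_assoc (c x * _), div_mul_cancel₀ _ (pow_ne_zero _ hp0)]
      ring
    simp only [h1, Finset.mul_sum]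
    rw [Finset.sum_comm (s := (Finset.univ : Finset G)), ← Finset.sum_add_distrib]
    refine Finset.sum_congr rfl fun χ hχ => ?_
    have hχ' := Set.mem_toFinset.1 hχ
    have := hprod χ hχ'
    simp only [a', dif_pos hχ']
    linear_combination -this
  rw [hmain]
  refine add_mem (S := ValuationSubring ℂ) (sum_mem fun χ hχ => ?_) (sum_mem fun x _ => ?_)
  · simp only [a', dif_pos (Set.mem_toFinset.1 hχ)]
    exact ha χ _
  · exact mul_mem (mul_mem (mem_of_localRing hA (hc x))
      (mem_of_localRing hA (memLocalRing_blockCoeff hB _))) hquot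

include hA hM hB in
/-- A function in the span with values in the valuation ring is a combination over it of the
regular parts of the block. -/
theorem exists_combination {f : G → ℂ} (hf : f ∈ regSpan p B)
    (hval : ∀ s, ¬ p ∣ orderOf s → f s ∈ A) :
    ∃ a : IrrCharacter G → ℂ, (∀ χ, a χ ∈ A) ∧
      f = ∑ χ ∈ B.toFinset, a χ • pRegularPart p (χ : G → ℂ) := by
  have hcf := classFunction_of_mem_regSpan hf
  set θ : G → ℂ := fun g => f (regOf p g) with hθ
  have hθcf : IsClassFunction G θ := fun g h => by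
    show f (regOf p (h * g * h⁻¹)) = _
    rw [regOf_conj, hcf]
  have hL : ∀ L : Subgroup G, ¬ p ∣ Nat.card L → Star.Spn A.toSubring (fun x : L => f x) := by
    intro L hLp
    haveI := Fintype.ofFinite L
    refine Star.spn_iff.2 ⟨fun x z => hcf x z, fun ψ => ?_⟩
    refine mul_mem (mem_of_localRing hA ?_) (sum_mem fun x _ => mul_mem (hval x ?_) ?_)
    · exact mem_localRing.1 (inv_natCast_mem_localRing hM hLp)
    · exact fun h => hLp (h.trans (by
        rw [Subgroup.orderOf_coe]; exact orderOf_dvd_natCard x))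
    · rw [← Chars.irr_inv]
      exact irr_mem hA ψ _
  have key : ∀ φ ∈ BrauerInd.linSpan (G := G) Nat.Prime, Star.Spn A.toSubring (θ * φ) := by
    intro φ hφ
    induction hφ using AddSubgroup.closure_induction with
    | mem x hx =>
      obtain ⟨E, ν, ⟨q, hq, hel⟩, rfl⟩ := hx
      haveI := Fintype.ofFinite E
      rw [BrauerInd.mul_indFun E θ hθcf]
      obtain ⟨L, ρ, hLp, hρ⟩ := exists_regOf_hom (p := p) E hq hel
      have hE : Star.Spn A.toSubring ((fun e : E => θ e) * fun e : E => (ν e : ℂ)) := by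
        refine Star.spn_mul ?_ (Star.spn_of_isCharacter (Chars.isCharacter_hom ν))
        have h2 : (fun e : E => θ e) = fun e : E => (fun x : L => f x) (ρ e) := funext fun e => by
          simp only [θ, hρ]
        rw [h2]
        exact Star.spn_comp ρ (hL L hLp)
      refine Star.spn_iff.2 ⟨?_, fun ψ => ?_⟩
      · exact Chars.isClassFunction_indFun E _
      · rw [Chars.classInner_indFun_left E _ _ (Chars.irr_isClassFunction ψ),
          Chars.classInner_eq_sum_mul_conj (φ := fun e : E => θ e * (ν e : ℂ))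
            (ψ := fun e : E => (ψ : G → ℂ) e) (Star.spn_iff.1 hE).1
            (fun x z => by simpa using Chars.irr_isClassFunction ψ (x : G) (z : G))]
        refine sum_mem fun α _ => mul_mem ((Star.spn_iff.1 hE).2 α) ?_
        obtain ⟨k, hk⟩ := Chars.isCharacter_classInner_nat
          (Chars.isCharacter_comp E.subtype (Chars.irr_isCharacter ψ)) (Chars.irr_isCharacter α)
        rw [show classInner (fun e : E => (ψ : G → ℂ) e) (α : E → ℂ) = k from hk, map_natCast]
        exact natCast_mem _ k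
    | zero => rw [mul_zero]; exact Star.spn_zero
    | add a b _ _ h1 h2 => rw [mul_add]; exact Star.spn_add h1 h2
    | neg a _ h1 =>
      rw [mul_neg, ← neg_one_smul ℂ]
      exact Star.spn_smul h1 (neg_mem (one_mem _))
  have h1 := key _ BrauerInd.one_mem_linSpan
  rw [show θ * (fun _ : G => (1 : ℂ)) = θ from mul_one θ] at h1
  refine ⟨fun χ => classInner θ (χ : G → ℂ), fun χ => (Star.spn_iff.1 h1).2 χ,
    eq_block_sum hM hB hf _ (funext fun g => ?_)⟩
  simp only [Finset.sum_apply, Pi.smul_apply, smul_eq_mul, pRegularPart_apply]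
  by_cases hg : p ∣ orderOf g
  · simp [hg, regular_of_mem_regSpan hf g hg]
  · simp only [hg, if_false]
    rw [← Chars.isClassFunction_apply_eq_sum_classInner hθcf g]
    simp only [θ, regOf_of_regular hg]

include hA hM hB in
/-- Divisibility of all the sums of products of regular values by the order of a defect group
forces a single irreducible Brauer character. -/
theorem blockRank_eq_one
    (h : ∀ s t : G, ¬ p ∣ orderOf s → ¬ p ∣ orderOf t →
      (∑ χ ∈ B.toFinset, (χ : G → ℂ) s * (χ : G → ℂ) t) / (p : ℂ) ^ blockDefect p B ∈ A) :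
    blockRank p B = 1 := by
  set δ := blockDefect p B
  have horth : HeightZero.RegOrth p M G := HeightZero.regOrth_holds hM
  obtain ⟨χ₀, hχ₀, h0⟩ := BrauerFeit.exists_height_zero (p := p) (isPBlock_nonempty hB)
  set Pi0 : IrrCharacter G → ℂ := fun θ => HeightZero.regPairing p (χ₀ : G → ℂ) (θ : G → ℂ)
  have hPi0R : ∀ θ, MemLocalRing M (Pi0 θ) := fun θ => HeightZero.memLocalRing_regPairing
    (fun χ g => mem_localRing.1 (centralChar_mem_localRing χ g)) p χ₀ (Chars.irr_isCharacter θ)
  have hu : ¬ MemLocalIdeal M (Pi0 χ₀) := HeightZero.not_memLocalIdeal_regPairing hM horth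
    (by rwa [← eq_blockOf_of_mem hB hχ₀]) (sameBlock_refl _)
  set β : IrrCharacter G → ℂ := fun θ => Pi0 θ * (Pi0 χ₀)⁻¹
  have hβR : ∀ θ, β θ ∈ localRing M := fun θ =>
    mul_mem (mem_localRing.2 (hPi0R θ)) (mem_localRing.2 (inv_mem_localRing (hPi0R χ₀) hu))
  -- congruence of the regular values
  have hcong : ∀ θ ∈ B, ∀ s : G, ¬ p ∣ orderOf s →
      (θ : G → ℂ) s - β θ * (χ₀ : G → ℂ) s ∈ A.nonunits := by
    intro θ hθ s hs
    set f : G → ℂ := ∑ χ ∈ B.toFinset,
      ((χ : G → ℂ) s / (p : ℂ) ^ δ) • pRegularPart p (χ : G → ℂ)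
    have hfmem : f ∈ regSpan p B := Submodule.sum_mem _ fun χ hχ => Submodule.smul_mem _ _
      (Submodule.subset_span ⟨χ, Set.mem_toFinset.1 hχ, rfl⟩)
    obtain ⟨a, ha, hfa⟩ := exists_combination hA hM hB hfmem fun t ht => by
      have := h s t hs ht
      convert this using 1
      simp only [f, Finset.sum_apply, Pi.smul_apply, smul_eq_mul, pRegularPart_apply, ht, if_false,
        Finset.sum_div]
      exact Finset.sum_congr rfl fun χ _ => by ring
    set c : IrrCharacter G → ℂ := fun η =>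
      ((p : ℂ) ^ δ * (charDegree (η : G → ℂ) : ℂ)) / (Nat.card G : ℂ)
    have hcR : ∀ η ∈ B, c η ∈ localRing M := fun η hη => by
      have h1 : ((p ^ δ * charDegree (η : G → ℂ) : ℕ) : ℂ) / (Nat.card G : ℂ) ∈ localRing M := by
        refine natCast_div_mem_localRing hM Nat.card_pos.ne' (Or.inl ?_)
        have := BrauerFeit.factorization_add_defect (p := p) hη
        rw [Nat.factorization_mul (pow_ne_zero _ hM.1.ne_zero) (CharCount.charDegree_ne_zero η),
          Finsupp.add_apply, hM.1.factorization_pow, Finsupp.single_eq_same]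
        omega
      simpa [c] using h1
    set lam : ℂ := ∑ η ∈ B.toFinset, a η * c η
    have hlam : lam ∈ A := sum_mem fun η hη =>
      mul_mem (ha η) (mem_of_localRing hA (hcR η (Set.mem_toFinset.1 hη)))
    have hnu : ∀ ψ ∈ B, (ψ : G → ℂ) s - lam * Pi0 ψ ∈ A.nonunits := by
      intro ψ hψ
      have e1 : classInner f (ψ : G → ℂ) * (p : ℂ) ^ δ = (ψ : G → ℂ) s := by
        simp only [f, Chars.classInner_sum_left, Chars.classInner_smul_left, Finset.sum_mul]
        have hp0 : (p : ℂ) ^ δ ≠ 0 := pow_ne_zero _ (Nat.cast_ne_zero.2 hM.1.ne_zero)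
        have h2 := BrauerFeit.pRegularPart_eq_finsum horth hB hψ s
        rw [pRegularPart_apply, if_neg hs, finsum_mem_eq_toFinset_sum] at h2
        rw [h2]
        refine Finset.sum_congr rfl fun χ _ => ?_
        show _ * regCoef p χ ψ * _ = _
        rw [BrauerFeit.regCoef_comm p χ ψ]
        field_simp
      have e2 : classInner f (ψ : G → ℂ) * (p : ℂ) ^ δ = ∑ η ∈ B.toFinset,
          a η * (c η * HeightZero.regPairing p (η : G → ℂ) (ψ : G → ℂ)) := by
        rw [hfa]
        simp only [Chars.classInner_sum_left, Chars.classInner_smul_left, Finset.sum_mul]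
        refine Finset.sum_congr rfl fun η _ => ?_
        show _ * regCoef p η ψ * _ = _
        rw [BrauerFeit.regCoef_eq_regPairing]
        simp only [c]
        ring
      rw [← e1, e2, Finset.sum_mul, ← Finset.sum_sub_distrib]
      refine (ValuationSubring.mem_nonunits_iff A).2 ?_
      refine A.valuation.map_sum_lt one_ne_zero fun η hη => ?_
      have hη' := Set.mem_toFinset.1 hη
      have hd := HeightZero.regPairing_congr (M := M) p (Chars.irr_isCharacter ψ)
        (sameBlock_of_mem hB hη' hχ₀)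
      have hdR : MemLocalIdeal M
          (c η * (HeightZero.regPairing p (η : G → ℂ) (ψ : G → ℂ) - Pi0 ψ)) :=
        memLocalIdeal_mul_left (mem_localRing.1 (hcR η hη')) hd
      have h1 := (hA ⟨_, memLocalIdeal_memLocalRing hdR⟩).2 hdR
      rw [ValuationSubring.mem_nonunits_iff] at h1
      rw [show a η * (c η * HeightZero.regPairing p (η : G → ℂ) (ψ : G → ℂ)) - a η * c η * Pi0 ψ =
        a η * (c η * (HeightZero.regPairing p (η : G → ℂ) (ψ : G → ℂ) - Pi0 ψ)) by ring, map_mul]
      exact mul_lt_one_of_nonneg_of_lt_one_right ((A.valuation_le_one_iff _).2 (ha η))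
        zero_le h1
    have hu0 : Pi0 χ₀ ≠ 0 := fun hz => hu (hz ▸ memLocalIdeal_zero)
    have h3 : (θ : G → ℂ) s - β θ * (χ₀ : G → ℂ) s =
        ((θ : G → ℂ) s - lam * Pi0 θ) - β θ * ((χ₀ : G → ℂ) s - lam * Pi0 χ₀) := by
      simp only [β]
      field_simp
      ring
    rw [h3, ValuationSubring.mem_nonunits_iff]
    refine A.valuation.map_sub_lt ((ValuationSubring.mem_nonunits_iff A).1 (hnu θ hθ)) ?_
    rw [map_mul]
    exact mul_lt_one_of_nonneg_of_lt_one_right
      ((A.valuation_le_one_iff _).2 (mem_of_localRing hA (mem_localRing.1 (hβR θ)))) zero_le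
      ((ValuationSubring.mem_nonunits_iff A).1 (hnu χ₀ hχ₀))
  -- Nakayama
  set f₀ := pRegularPart p (χ₀ : G → ℂ) with hf₀
  suffices hmult : ∀ θ ∈ B, ∃ γ : ℂ, pRegularPart p (θ : G → ℂ) = γ • f₀ by
    refine le_antisymm ?_ ?_
    · rw [blockRank]
      refine (Submodule.finrank_mono (t := Submodule.span ℂ {f₀}) (Submodule.span_le.2 ?_)).trans
        ((finrank_span_le_card _).trans (by simp))
      rintro _ ⟨θ, hθ, rfl⟩
      obtain ⟨γ, hγ⟩ := hmult θ hθ
      exact Submodule.mem_span_singleton.2 ⟨γ, hγ.symm⟩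
    · refine Nat.one_le_iff_ne_zero.2 fun h0 => ?_
      rw [blockRank, Submodule.finrank_eq_zero] at h0
      have h1 : f₀ ∈ (⊥ : Submodule ℂ (G → ℂ)) := h0 ▸ Submodule.subset_span ⟨χ₀, hχ₀, rfl⟩
      have h2 := congrFun ((Submodule.mem_bot ℂ).1 h1) 1
      rw [hf₀, pRegularPart_apply, if_neg (by rw [orderOf_one]; exact hM.1.not_dvd_one)] at h2
      exact Chars.irr_apply_one_ne_zero χ₀ h2
  set S : Finset (IrrCharacter G) := B.toFinset
  let D : S → G → ℂ := fun θ => pRegularPart p ((θ : IrrCharacter G) : G → ℂ) -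
    β (θ : IrrCharacter G) • f₀
  have hD : ∀ θ s, D θ s ∈ A.nonunits := fun θ s => by
    simp only [D, f₀, Pi.sub_apply, Pi.smul_apply, smul_eq_mul, pRegularPart_apply]
    split_ifs with hs
    · rw [mul_zero, sub_zero, ValuationSubring.mem_nonunits_iff, map_zero]
      exact zero_lt_one
    · exact hcong θ (Set.mem_toFinset.1 θ.2) s hs
  obtain ⟨π, hπ0, hπ, hb⟩ : ∃ π : ℂ, π ∈ A.nonunits ∧ True ∧ ∃ b : S → S → ℂ, (∀ i j, b i j ∈ A) ∧
      ∀ i s, D i s = π * ∑ j, b i j * pRegularPart p ((j : IrrCharacter G) : G → ℂ) s := by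
    haveI : Nonempty S := ⟨⟨χ₀, Set.mem_toFinset.2 hχ₀⟩⟩
    obtain ⟨⟨i₀, s₀⟩, -, hmax⟩ := (Finset.univ : Finset (S × G)).exists_max_image
      (fun q => A.valuation (D q.1 q.2)) ⟨(Classical.arbitrary S, 1), Finset.mem_univ _⟩
    refine ⟨D i₀ s₀, hD _ _, trivial, ?_⟩
    by_cases hz : D i₀ s₀ = 0
    · refine ⟨fun _ _ => 0, fun _ _ => zero_mem A.toSubring, fun i s => ?_⟩
      have := hmax (i, s) (Finset.mem_univ _)
      simp only [hz, map_zero, le_zero_iff, map_eq_zero] at this
      simp [this, hz]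
    have hmem : ∀ i : S, (D i₀ s₀)⁻¹ • D i ∈ regSpan p B := fun i =>
      Submodule.smul_mem _ _ (Submodule.sub_mem _
        (Submodule.subset_span ⟨_, Set.mem_toFinset.1 i.2, rfl⟩)
        (Submodule.smul_mem _ _ (Submodule.subset_span ⟨χ₀, hχ₀, rfl⟩)))
    choose b hb hbeq using fun i => exists_combination hA hM hB (hmem i) fun s _ => by
      rw [Pi.smul_apply, smul_eq_mul, ← A.valuation_le_one_iff, inv_mul_eq_div, map_div₀,
        div_le_one₀ (zero_lt_iff.2 ((Valuation.ne_zero_iff _).2 hz))]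
      exact hmax (i, s) (Finset.mem_univ _)
    refine ⟨fun i j => b i j, fun i j => hb i j, fun i s => ?_⟩
    have := congrFun (hbeq i) s
    simp only [Pi.smul_apply, Finset.sum_apply, smul_eq_mul] at this
    rw [← Finset.sum_attach] at this
    rw [Finset.univ_eq_attach, ← this, ← mul_assoc, mul_inv_cancel₀ hz, one_mul]
  obtain ⟨b, hbA, hbD⟩ := hb
  let Kmat : Matrix S S ℂ := 1 - π • Matrix.of b
  have hdet : Kmat.det ≠ 0 := by
    let πA : A := ⟨π, A.valuation_le_one_iff π |>.1
      ((ValuationSubring.mem_nonunits_iff A).1 hπ0).le⟩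
    let K₀ : Matrix S S A := 1 - πA • Matrix.of fun i j => (⟨b i j, hbA i j⟩ : A)
    have hK : A.subtype.mapMatrix K₀ = Kmat := by
      ext i j
      simp only [K₀, Kmat, RingHom.mapMatrix_apply, Matrix.map_apply, Matrix.sub_apply,
        Matrix.smul_apply, Matrix.of_apply, smul_eq_mul, map_sub, map_mul, Matrix.one_apply]
      split_ifs <;> simp [πA]
    have hu' : IsUnit K₀.det := by
      refine (IsLocalRing.residue_ne_zero_iff_isUnit _).1 ?_
      have hπres : IsLocalRing.residue A πA = 0 := (IsLocalRing.residue_eq_zero_iff _).2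
        (ValuationSubring.coe_mem_nonunits_iff.1 hπ0)
      rw [RingHom.map_det]
      have : (IsLocalRing.residue A).mapMatrix K₀ = 1 := by
        ext i j
        simp [K₀, hπres, Matrix.one_apply, apply_ite (IsLocalRing.residue A)]
      rw [this, Matrix.det_one]
      exact one_ne_zero
    rw [← hK, ← RingHom.map_det]
    exact (map_ne_zero_iff _ Subtype.val_injective).2 hu'.ne_zero
  intro θ hθ
  refine ⟨(Kmat⁻¹.mulVec fun i : S => β (i : IrrCharacter G)) ⟨θ, Set.mem_toFinset.2 hθ⟩,
    funext fun s => ?_⟩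
  let v : S → ℂ := fun i => pRegularPart p ((i : IrrCharacter G) : G → ℂ) s
  have hv : Kmat.mulVec v = f₀ s • fun i : S => β (i : IrrCharacter G) := by
    funext i
    have h1 := hbD i s
    simp only [D, Pi.sub_apply, Pi.smul_apply, smul_eq_mul] at h1
    rw [show Kmat *ᵥ v = v - π • (Matrix.of b *ᵥ v) by
      rw [Matrix.sub_mulVec, Matrix.one_mulVec, Matrix.smul_mulVec]]
    simp only [v, Pi.sub_apply, Pi.smul_apply, smul_eq_mul, Matrix.mulVec, dotProduct,
      Matrix.of_apply]
    linear_combination h1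
  have := congrArg (Kmat⁻¹.mulVec) hv
  rw [Matrix.mulVec_mulVec, Matrix.nonsing_inv_mul _ (isUnit_iff_ne_zero.2 hdet),
    Matrix.one_mulVec, Matrix.mulVec_smul] at this
  have h4 := congrFun this ⟨θ, Set.mem_toFinset.2 hθ⟩
  simp only [v, Pi.smul_apply, smul_eq_mul] at h4 ⊢
  rw [h4, mul_comm]

end Cfsg.Agent.Lib.EqualDegree
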