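import Mathlib
import Cfsg.Agent.Lib.EqualDegree.Values
import Cfsg.Agent.Lib.BlockAlg.SectionTrace
import Cfsg.Agent.Lib.AbelianStar.Main
import Cfsg.Agent.Lib.NilBlock.Main

/-!
# Blocks with abelian defect group and equal degrees are nilpotent

All subsections of such a block have one Brauer character, so the block has as many characters as
orbits of the inertial group on the defect group, and this number is the order of the defect group.
-/

set_option autoImplicit false
set_option linter.unusedSectionVars false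

namespace Cfsg.Agent.Lib.EqualDegree

open Cfsg
open Cfsg.Agent.Lib
open Cfsg.Agent.Lib.Blocks
open Cfsg.Agent.Lib.BlockAlg
open Cfsg.Agent.Lib.BrauerPairs
open Cfsg.Agent.Lib.NilBlock (bu bu_fst centralizer_bu)
open Cfsg.Agent.Lib.BrauerFeit (regCoef pRegularPart_apply)

universe u

attribute [local instance] Classical.propDecidable

variable {G : Type u} [Group G] [Fintype G] {p : ℕ} [Fact p.Prime] {M : Ideal AlgInt} [M.IsPrime]
  [M.IsMaximal] {B : Set (IrrCharacter G)} {b : BrauerPairIdx G} {d : ℕ}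

variable (hM : IsPModular p M) (hmax : IsMaximalBrauerPair p M B b.1 b.2)
  (hab : ∀ x ∈ b.1, ∀ y ∈ b.1, x * y = y * x)
  (hd : ∀ χ ∈ B, charDegree ((χ : IrrCharacter G) : G → ℂ) = d)

include hM hmax hab hd in
/-- Every subsection has one irreducible Brauer character. -/
theorem blockRank_bu {v : G} (hv : v ∈ b.1) : blockRank p (bu p M b v).2 = 1 := by
  obtain ⟨A, hA⟩ := exists_dominates M
  have hB := hmax.1.2.1
  set C := Subgroup.centralizer ((bu p M b v).1 : Set G) with hCdef
  haveI : Fintype C := Fintype.ofFinite _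
  set e := (bu p M b v).2 with hedef
  have hmax' := AbelianStar.isMaximal_locPair hM hmax hab hv
  have he : IsPBlock M e := hmax'.1.2.1
  have hind := NilBlock.isInducedBlock_bu hM hmax hv
  have hu : ∃ k : ℕ, orderOf v = p ^ k := NilBlock.exists_orderOf_eq hM hmax hv
  have hC : C = Subgroup.centralizer ({v} : Set G) := centralizer_bu v
  have hdef : p ^ blockDefect p e = p ^ blockDefect p B := by
    rw [← BrauerFeit.card_defectGroup hM he (isDefectGroup_of_isMaximal hM hmax'),
      ← BrauerFeit.card_defectGroup hM hB (isDefectGroup_of_isMaximal hM hmax)]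
    exact Nat.card_congr (Subgroup.subgroupOfEquivOfLe (AbelianStar.le_cent hab hv)).toEquiv
  refine blockRank_eq_one hA hM he fun s t hs ht => ?_
  rw [show blockDefect p e = blockDefect p B from
    Nat.pow_right_injective (Fact.out : p.Prime).two_le hdef]
  set S := inducingSet M C B
  let F : C → ℂ := fun x => ∑ φ ∈ S.toFinset, (φ : C → ℂ) x * (φ : C → ℂ) t
  have hT : ∑ φ ∈ e.toFinset, (φ : C → ℂ) s * (φ : C → ℂ) t =
      ∑ h : C, blockCoeff e h * F (h * s) := by
    simp only [F, Finset.mul_sum]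
    rw [Finset.sum_comm]
    have h1 : ∀ φ : IrrCharacter C,
        ∑ h : C, blockCoeff e h * ((φ : C → ℂ) (h * s) * (φ : C → ℂ) t) =
          if φ ∈ e then (φ : C → ℂ) s * (φ : C → ℂ) t else 0 := fun φ => by
      rw [← ite_zero_mul, ← sum_blockCoeff_mul_apply (B := e) φ s, Finset.sum_mul]
      exact Finset.sum_congr rfl fun h _ => by ring
    rw [Finset.sum_congr rfl fun φ _ => h1 φ, Finset.sum_ite, Finset.sum_const_zero, add_zero]
    refine Finset.sum_congr (Finset.ext fun φ => ?_) fun _ _ => rfl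
    simp only [Finset.mem_filter, Set.mem_toFinset]
    exact ⟨fun h => ⟨show IsInducedBlock M C (blockOf M (φ : C → ℂ)) B from
      (eq_blockOf_of_mem he h) ▸ hind, h⟩, fun h => h.2⟩
  rw [hT, Finset.sum_div]
  refine sum_mem fun h _ => ?_
  rw [mul_div_assoc]
  refine mul_mem (mem_of_localRing hA (memLocalRing_blockCoeff he h)) ?_
  by_cases hx : p ∣ orderOf (h * s)
  · have h0 : F (h * s) = 0 := by
      simp only [F, S]
      rw [show (inducingSet M C B).toFinset = Finset.univ.filter
          (fun φ : IrrCharacter C => IsInducedBlock M C (blockOf M (φ : C → ℂ)) B) by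
        ext φ; simp only [Set.mem_toFinset, Finset.mem_filter, Finset.mem_univ, true_and]; rfl]
      refine sum_filter_by_blocks (M := M) (fun f => IsInducedBlock M C f B) _ fun ξ _ => ?_
      have hxi : p ∣ orderOf (h * s)⁻¹ := by rwa [orderOf_inv]
      have h := weak_block_orth hM (isPBlock_blockOf (M := M) ξ) ht hxi
      rw [finsum_mem_eq_toFinset_sum] at h
      rw [← h]
      refine Finset.sum_congr rfl fun φ _ => ?_
      rw [← Chars.irr_inv, inv_inv, mul_comm]
    rw [h0, zero_div]
    exact zero_mem A.toSubring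
  · show F (h * s) / (p : ℂ) ^ blockDefect p B ∈ A
    have := sum_block_section_mul hM hB hu hC hx ht
    simp only [F, S]
    rw [← this]
    exact sum_mul_mem hA hM hB hd _ _

include hM hmax hab hd in
/-- The inertial group centralizes the defect group. -/
theorem fixed_of_equal_degrees {y : G} (hy : AbelianStar.InStab b y) :
    ∀ w ∈ b.1, y * w * y⁻¹ = w := by
  obtain ⟨A, hA⟩ := exists_dominates M
  have hB := hmax.1.2.1
  have hone : ∀ w : b.1, blockRank p (bu p M b w).2 = 1 := fun w =>
    blockRank_bu hM hmax hab hd w.2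
  have hl : blockRank p B = 1 := by
    rw [← AbelianStar.blockRank_bu_of_mem_center hM hmax (one_mem b.1) (one_mem _)]
    exact hone 1
  have hk : (Nat.card B : ℂ) = ∑ w : b.1, ((AbelianStar.orb b w).card : ℂ)⁻¹ := by
    have h := AbelianStar.card_range_mul_sum_fibre hM hmax hab (1 : b.1 →* b.1)
      (fun _ _ _ _ _ => rfl) (one_mem _)
    rw [MonoidHom.range_one, Subgroup.card_bot, Nat.cast_one, one_mul,
      Finset.filter_true_of_mem (fun w _ => by simp)] at h
    rw [← h]
    exact Finset.sum_congr rfl fun w _ => by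
      rw [AbelianStar.secWeight, hone, Nat.cast_one, mul_one]
  -- the regular parts coincide
  obtain ⟨χ₀, hχ₀, h0⟩ := BrauerFeit.exists_height_zero (p := p) (isPBlock_nonempty hB)
  set f₀ := pRegularPart p (χ₀ : G → ℂ) with hf₀
  have hp1 : ¬ p ∣ orderOf (1 : G) := by
    rw [orderOf_one]; exact (Fact.out : p.Prime).not_dvd_one
  have hf1 : f₀ 1 = (d : ℂ) := by
    rw [hf₀, pRegularPart_apply, if_neg hp1, ← (HeightZero.charDegree_eq χ₀).1, hd χ₀ hχ₀]
  have hd0 : d ≠ 0 := hd χ₀ hχ₀ ▸ (HeightZero.charDegree_eq χ₀).2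
  have hsame : ∀ χ ∈ B, pRegularPart p ((χ : IrrCharacter G) : G → ℂ) = f₀ := by
    intro χ hχ
    obtain ⟨γ, hγ⟩ := (finrank_eq_one_iff_of_nonzero'
      (⟨f₀, Submodule.subset_span ⟨χ₀, hχ₀, rfl⟩⟩ :
        Submodule.span ℂ ((fun χ : IrrCharacter G => pRegularPart p (χ : G → ℂ)) '' B))
      (fun h => by
        have h2 := congrFun (congrArg Subtype.val h) 1
        rw [show ((⟨f₀, _⟩ : Submodule.span ℂ _) : G → ℂ) = f₀ from rfl, hf1] at h2
        exact Nat.cast_ne_zero.2 hd0 h2)).1 hl
      ⟨_, Submodule.subset_span ⟨χ, hχ, rfl⟩⟩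
    have hγ' : γ • f₀ = pRegularPart p (χ : G → ℂ) := congrArg Subtype.val hγ
    have h1 := congrFun hγ' 1
    rw [Pi.smul_apply, smul_eq_mul, hf1, pRegularPart_apply, if_neg hp1,
      ← (HeightZero.charDegree_eq χ).1, hd χ hχ] at h1
    rw [← hγ', (mul_eq_right₀ (Nat.cast_ne_zero.2 hd0)).1 h1, one_smul]
  set k := Nat.card B
  have hcardB : B.toFinset.card = k := by
    rw [Set.toFinset_card, ← Nat.card_eq_fintype_card]
  -- the order of the defect group divides the number of characters
  have hdvd : p ^ blockDefect p B ∣ k := by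
    have horth : HeightZero.RegOrth p M G := HeightZero.regOrth_holds hM
    have hu : ¬ MemLocalIdeal M (HeightZero.regPairing p (χ₀ : G → ℂ) (χ₀ : G → ℂ)) :=
      HeightZero.not_memLocalIdeal_regPairing hM horth
        (by rwa [← eq_blockOf_of_mem hB hχ₀]) (sameBlock_refl _)
    -- some value is a unit
    obtain ⟨s, hs, hsu⟩ : ∃ s : G, ¬ p ∣ orderOf s ∧ ¬ MemLocalIdeal M ((χ₀ : G → ℂ) s) := by
      by_contra hc
      push Not at hc
      refine hu ?_
      have hfun : ∀ g, MemLocalIdeal M (HeightZero.regWeight p (χ₀ : G → ℂ) g) := fun g => by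
        rw [HeightZero.regWeight]
        split_ifs with hg
        · exact memLocalIdeal_zero
        · rw [← Chars.irr_inv]
          exact hc _ (by rwa [orderOf_inv])
      haveI : Fintype (ConjClasses G) := Fintype.ofFinite _
      rw [HeightZero.regPairing, HeightZero.sum_mul_div_eq_sum_centralChar
        (HeightZero.isClassFunction_regWeight p (Chars.irr_isClassFunction χ₀))
        (Chars.irr_isClassFunction χ₀)]
      exact memLocalIdeal_sum _ _ fun C _ => memLocalIdeal_mul_right (hfun _)
        (mem_localRing.1 (centralChar_mem_localRing χ₀ _))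
    set f : G → ℂ := ((k : ℂ) * (χ₀ : G → ℂ) s / (p : ℂ) ^ blockDefect p B) • f₀
    have hval : ∀ t, ¬ p ∣ orderOf t → f t ∈ A := fun t ht => by
      have := sum_mul_mem hA hM hB hd s t
      rw [Finset.sum_congr rfl fun χ hχ => by
        rw [show (χ : G → ℂ) s = f₀ s by
            rw [← hsame χ (Set.mem_toFinset.1 hχ), pRegularPart_apply, if_neg hs],
          show (χ : G → ℂ) t = f₀ t by
            rw [← hsame χ (Set.mem_toFinset.1 hχ), pRegularPart_apply, if_neg ht]],
        Finset.sum_const, nsmul_eq_mul, hcardB] at this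
      convert this using 1
      simp only [f, f₀, Pi.smul_apply, smul_eq_mul, pRegularPart_apply, hs, if_false]
      ring
    obtain ⟨a, ha, hfa⟩ := exists_combination hA hM hB (Submodule.smul_mem _ _
      (Submodule.subset_span ⟨χ₀, hχ₀, rfl⟩) : f ∈ regSpan p B) hval
    rw [Finset.sum_congr rfl fun χ hχ => by rw [hsame χ (Set.mem_toFinset.1 hχ)],
      ← Finset.sum_smul] at hfa
    have h1 := congrFun hfa 1
    simp only [f, Pi.smul_apply, smul_eq_mul, hf1] at h1
    have h2 : (k : ℂ) * (χ₀ : G → ℂ) s / (p : ℂ) ^ blockDefect p B ∈ A := by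
      rw [mul_right_cancel₀ (Nat.cast_ne_zero.2 hd0) h1]
      exact sum_mem fun χ _ => ha χ
    have hsR : MemLocalRing M ((χ₀ : G → ℂ) s) :=
      mem_localRing.1 (isIntegral_mem_localRing (Chars.irr_isIntegral χ₀ s))
    have h3 : (k : ℂ) / (p : ℂ) ^ blockDefect p B ∈ A := by
      have h4 := mul_mem h2 (mem_of_localRing hA (inv_mem_localRing hsR hsu))
      have hs0 : (χ₀ : G → ℂ) s ≠ 0 := fun h => hsu (h ▸ memLocalIdeal_zero)
      convert h4 using 1
      field_simp
    -- a rational in the valuation ring has denominator prime to `p`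
    by_contra hndvd
    have hp := (Fact.out : p.Prime)
    have hv : A.valuation (p : ℂ) < 1 := (ValuationSubring.mem_nonunits_iff A).1 (by
      simpa using (hA (p : localRing M)).2 (by
        simpa using (memLocalIdeal_natCast_iff hM p).2 dvd_rfl))
    obtain ⟨i, hi, c, hc, hkc⟩ : ∃ i < blockDefect p B, ∃ c, ¬ p ∣ c ∧ k = p ^ i * c := by
      have hk0 : k ≠ 0 := fun h => hndvd (h ▸ dvd_zero _)
      refine ⟨k.factorization p, ?_, k / p ^ k.factorization p, Nat.not_dvd_ordCompl hp hk0,
        (Nat.ordProj_mul_ordCompl_eq_self k p).symm⟩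
      by_contra hle
      exact hndvd ((hp.pow_dvd_iff_le_factorization hk0).2 (not_lt.1 hle))
    have hc1 : A.valuation ((c : ℂ)⁻¹) ≤ 1 := (A.valuation_le_one_iff _).2
      (mem_of_localRing hA (mem_localRing.1 (inv_natCast_mem_localRing hM hc)))
    have h5 : (p : ℂ)⁻¹ ∈ A := by
      have h6 := mul_mem (mul_mem h3 ((A.valuation_le_one_iff _).1 hc1))
        (pow_mem (natCast_mem A.toSubring p : (p : ℂ) ∈ A) (blockDefect p B - i - 1))
      convert h6 using 1
      have hp0 : (p : ℂ) ≠ 0 := Nat.cast_ne_zero.2 hp.ne_zero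
      have hc0 : (c : ℂ) ≠ 0 := Nat.cast_ne_zero.2 fun h => hc (h ▸ dvd_zero _)
      rw [hkc, show blockDefect p B = i + (blockDefect p B - i - 1) + 1 by omega]
      rw [show i + (blockDefect p B - i - 1) + 1 - i - 1 = blockDefect p B - i - 1 by omega]
      push_cast
      field_simp
      ring
    have h7 := (A.valuation_le_one_iff _).2 h5
    rw [map_inv₀, inv_le_one₀ (zero_lt_iff.2 ((Valuation.ne_zero_iff _).2
      (Nat.cast_ne_zero.2 hp.ne_zero)))] at h7
    exact absurd hv (not_lt.2 h7)
  -- counting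
  have hcardP : Nat.card b.1 = p ^ blockDefect p B :=
    BrauerFeit.card_defectGroup hM hB (isDefectGroup_of_isMaximal hM hmax)
  have hRe : (k : ℝ) = ∑ w : b.1, ((AbelianStar.orb b w).card : ℝ)⁻¹ := by
    apply Complex.ofReal_injective
    push_cast
    exact hk
  have hpos : ∀ w : b.1, (1 : ℝ) ≤ (AbelianStar.orb b w).card := fun w => by
    exact_mod_cast AbelianStar.orb_card_pos hmax w
  have hk0 : k ≠ 0 := Nat.card_ne_zero.2 ⟨⟨⟨χ₀, hχ₀⟩⟩, inferInstance⟩
  have hge : (Nat.card b.1 : ℝ) ≤ k := by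
    rw [hcardP]
    exact_mod_cast Nat.le_of_dvd (Nat.pos_of_ne_zero hk0) hdvd
  intro w hw
  by_contra hne
  have h2 : 1 < (AbelianStar.orb b ⟨w, hw⟩).card := by
    obtain ⟨w', hw', -⟩ : ∃ w' : b.1, (w' : G) = y * w * y⁻¹ ∧ True := by
      have := ((AbelianStar.inStab_iff hmax.1.1.2).1 hy)
      exact ⟨⟨y * w * y⁻¹, (Subgroup.mem_normalizer_iff.1
        ((BrauerPairs.mem_pairStab_iff_stabilizesBlock (a := b) hmax.1.1.2).1 this).1 w).1 hw⟩,
        rfl, trivial⟩
    refine Finset.one_lt_card.2 ⟨⟨w, hw⟩, AbelianStar.self_mem_orb hmax _, w',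
      AbelianStar.mem_orb.2 ⟨y, hy, hw'.symm⟩, fun h => hne ?_⟩
    rw [← hw', ← h]
  have hlt : ∑ w : b.1, ((AbelianStar.orb b w).card : ℝ)⁻¹ < ∑ _w : b.1, (1 : ℝ) := by
    refine Finset.sum_lt_sum (fun z _ => inv_le_one_of_one_le₀ (hpos z))
      ⟨⟨w, hw⟩, Finset.mem_univ _, inv_lt_one_of_one_lt₀ (by exact_mod_cast h2)⟩
  rw [Finset.sum_const, Finset.card_univ, ← Nat.card_eq_fintype_card, nsmul_eq_mul, mul_one,
    ← hRe] at hlt
  linarith

end Cfsg.Agent.Lib.EqualDegree
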