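import Cfsg.Agent.Lib.BrauerPairs.Fusion
import Cfsg.Agent.Lib.BrauerPairs.Block
import Cfsg.Agent.Lib.BrauerPairs.KernelCore
import Mathlib

/-!
# Nilpotency of a block with normal defect group

The pairs of the block above a given one on the defect group are conjugate under its centralizer,
so nilpotency only depends on the stabilizer of the maximal pair.
-/

set_option autoImplicit false
set_option linter.unusedSectionVars false
set_option linter.style.haveILetI false

namespace Cfsg.Agent.Lib.EqualDegree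

open Cfsg MonoidAlgebra
open Cfsg.Agent.Lib
open Cfsg.Agent.Lib.BrauerPairs
open Cfsg.Agent.Lib.BrauerMap (fixedRing core brHom)
open Cfsg.Agent.Lib.Blocks (localRing residue Residue)

universe u

variable {G : Type u} [Group G] [Finite G] {M : Ideal AlgInt} [M.IsPrime] {p : ℕ} [Fact p.Prime]
  {B : Set (IrrCharacter G)} {b : BrauerPairIdx G}

variable (hM : IsPModular p M) (hmax : IsMaximalBrauerPair p M B b.1 b.2) (hn : b.1.Normal)

include hM hmax hn in
theorem pair_fst_le {a : BrauerPairIdx G} (ha : IsBrauerPairOf p M B a.1 a.2) : a.1 ≤ b.1 := by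
  obtain ⟨x, hx⟩ := exists_conj_pairLE_max hM (a := b) hmax ha
  intro q hq
  have h1 : x * q * x⁻¹ ∈ b.1 := pairLE_fst_le hx ⟨q, hq, rfl⟩
  simpa [mul_assoc] using hn.conj_mem _ h1 x⁻¹

include hM hmax hn in
/-- Two pairs of the block on the defect group above a given pair are conjugate by its
centralizer. -/
theorem exists_conj_above {a c c' : BrauerPairIdx G} (hc : IsBrauerPairOf p M B c.1 c.2)
    (hc' : IsBrauerPairOf p M B c'.1 c'.2) (h1 : c.1 = b.1) (h1' : c'.1 = b.1)
    (ha : PairLE p M a c) (ha' : PairLE p M a c') :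
    ∃ k ∈ Subgroup.centralizer (a.1 : Set G), conjPair k c = c' := by
  induction hN : Nat.card b.1 - Nat.card a.1 using Nat.strong_induction_on
    generalizing a c c' with
  | _ n ih =>
  have haD : a.1 ≤ b.1 := h1 ▸ pairLE_fst_le ha
  rcases haD.eq_or_lt with heq | hlt
  · refine ⟨1, one_mem _, ?_⟩
    rw [conjPair_one hc.1.2, ← KernelCore.eq_of_pairLE_of_card hM ha (by rw [h1, heq]),
      ← KernelCore.eq_of_pairLE_of_card hM ha' (by rw [h1', heq])]
  set R := b.1 ⊓ Subgroup.normalizer (a.1 : Set G) with hR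
  have hQR : a.1 < R := BrauerMap.lt_inf_normalizer_of_lt (Fact.out : p.Prime) hmax.1.1.1 hlt
  obtain ⟨g, hg, hgc⟩ := exists_normal_between hM hc.1 ha hQR.le (h1 ▸ inf_le_left) inf_le_right
  obtain ⟨g', hg', hgc'⟩ :=
    exists_normal_between hM hc'.1 ha' hQR.le (h1' ▸ inf_le_left) inf_le_right
  set C := Subgroup.centralizer (a.1 : Set G) with hC
  have hap : IsPair p M a := IsPair.of_pairLE hc.1 ha
  obtain ⟨ξ₀, hξ₀⟩ := Blocks.isPBlock_nonempty hap.2
  have hcore : core a.1 ≤ R ⊔ C := sup_le_sup_right hQR.le _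
  set ω : fixedRing M (R ⊔ C) →+* Residue M :=
    (brHom hM hap.1 ξ₀).comp (Subring.inclusion (BrauerMap.fixedRing_anti hcore)) with hω
  have hfor : IsPairFor hM (R ⊔ C) ω a := ⟨hap.1, hcore, hap.2, fun ξ hξ z => by
    rw [BrauerMap.brHom_eq_of_sameBlock hM hap.1 (Blocks.sameBlock_of_mem hap.2 hξ hξ₀)]
    rfl⟩
  have hmaxR : ∀ g₁ : Set (IrrCharacter (Subgroup.centralizer (R : Set G))),
      ∀ d : BrauerPairIdx G, IsBrauerPairOf p M B d.1 d.2 →
      NormalSubpairRel p M a ⟨R, g₁⟩ → PairLE p M ⟨R, g₁⟩ d →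
      IsMaxFor hM (R ⊔ C) ω ⟨R, g₁⟩ := fun g₁ d hd hg₁ hg₁d => by
    refine ⟨isPairFor_of_normal hfor hg₁ le_sup_left, fun e he hle => ?_⟩
    have hgB : IsBrauerPairOf p M B R g₁ :=
      (BrauerMap.isBrauerPairOf_iff_of_subpairLE hM hg₁d hd.1 hd.2.1).1 hd
    have heB : IsBrauerPairOf p M B e.1 e.2 :=
      (BrauerMap.isBrauerPairOf_iff_of_subpairLE hM (Q := R) (P := e.1) hle he.isPair
        hd.2.1).2 hgB
    refine le_antisymm (le_inf (pair_fst_le hM hmax hn heB) (he.le.trans (sup_le inf_le_right ?_)))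
      (pairLE_fst_le hle)
    exact Subgroup.centralizer_le_normalizer _
  obtain ⟨k, hk, hkg⟩ := exists_conj_eq (hmaxR g c hc hg hgc) (hmaxR g' c' hc' hg' hgc')
  have hRN : R ≤ Subgroup.normalizer (C : Set G) :=
    inf_le_right.trans (BrauerMap.normalizer_le_normalizer_centralizer' a.1)
  rw [← SetLike.mem_coe, Subgroup.coe_mul_of_left_le_normalizer_right _ _ hRN] at hk
  obtain ⟨r, hr, k₁, hk₁, rfl⟩ := hk
  have hgp : IsPair p M (⟨R, g'⟩ : BrauerPairIdx G) := IsPair.of_pairLE hc'.1 hgc'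
  have hgp1 : IsPair p M (⟨R, g⟩ : BrauerPairIdx G) := IsPair.of_pairLE hc.1 hgc
  have hk₁g : conjPair k₁ (⟨R, g⟩ : BrauerPairIdx G) = ⟨R, g'⟩ := by
    have h := congrArg (conjPair r⁻¹) hkg
    rw [conjPair_mul hgp1.2, inv_mul_cancel_left,
      conjPair_of_mem hgp (R.inv_mem hr)] at h
    exact h
  have hck : IsBrauerPairOf p M B (conjPair k₁ c).1 (conjPair k₁ c).2 := isBrauerPairOf_conj hc k₁
  have hck1 : (conjPair k₁ c).1 = b.1 := by
    haveI := hn
    rw [conjPair_fst, h1, map_conj_eq_iff_mem_normalizer, Subgroup.normalizer_eq_top]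
    exact Subgroup.mem_top _
  have hle := pairLE_conj hgc k₁
  rw [hk₁g] at hle
  have hcard : Nat.card b.1 - Nat.card R < n := by
    have h3 : Nat.card a.1 < Nat.card R := (Subgroup.card_le_of_le hQR.le).lt_of_ne fun e =>
      hQR.ne (Subgroup.eq_of_le_of_card_ge hQR.le e.ge)
    have h4 : Nat.card R ≤ Nat.card b.1 := Subgroup.card_le_of_le inf_le_left
    omega
  obtain ⟨k₂, hk₂, h2⟩ := ih _ hcard (a := ⟨R, g'⟩) hck hc' hck1 h1' hle hgc' rfl
  refine ⟨k₂ * k₁, mul_mem (BrauerMap.centralizer_anti hQR.le hk₂) hk₁, ?_⟩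
  rw [← h2, conjPair_mul hc.1.2]

include hM hmax hn in
/-- A block with normal defect group is nilpotent when the stabilizer of its maximal pair acts on
the defect group as a `p`-group. -/
theorem isNilpotentBlock_of_normal
    (hstab : ∀ z : G, conjPair z b = b → IsPRegular p z →
      z ∈ Subgroup.centralizer (b.1 : Set G)) :
    IsNilpotentBlock p M B := by
  refine ⟨hmax.1.2.1, fun Q e he x hxN hxS hxr => ?_⟩
  obtain ⟨y, hy⟩ := exists_conj_pairLE_max hM (a := b) (b := ⟨Q, e⟩) hmax he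
  have hxfix : conjPair x (⟨Q, e⟩ : BrauerPairIdx G) = ⟨Q, e⟩ :=
    (mem_pairStab_iff_stabilizesBlock (a := ⟨Q, e⟩) he.1.2).2 ⟨hxN, hxS⟩
  set c := conjPair y⁻¹ b with hcdef
  have hc : IsBrauerPairOf p M B c.1 c.2 := isBrauerPairOf_conj hmax.1 _
  have hfst : ∀ w : G, b.1.map (MulAut.conj w).toMonoidHom = b.1 := fun w => by
    haveI := hn
    rw [map_conj_eq_iff_mem_normalizer, Subgroup.normalizer_eq_top]
    exact Subgroup.mem_top _
  have hc1 : c.1 = b.1 := hfst _
  have hle : PairLE p M (⟨Q, e⟩ : BrauerPairIdx G) c := by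
    have := pairLE_conj hy y⁻¹
    rwa [conjPair_inv_cancel he.1.2] at this
  have hlex : PairLE p M (⟨Q, e⟩ : BrauerPairIdx G) (conjPair x c) := by
    have := pairLE_conj hle x
    rwa [hxfix] at this
  obtain ⟨k, hk, hkc⟩ := exists_conj_above hM hmax hn (isBrauerPairOf_conj hc x) hc
    (by rw [conjPair_fst, hc1, hfst]) hc1 hlex hle
  rw [conjPair_mul hc.1.2, hcdef, conjPair_mul hmax.1.1.2] at hkc
  have hz : conjPair (y * (k * x) * y⁻¹) b = b := by
    have := congrArg (conjPair y) hkc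
    rwa [conjPair_mul hmax.1.1.2, conjPair_mul hmax.1.1.2, mul_inv_cancel,
      conjPair_one hmax.1.1.2, ← mul_assoc] at this
  set z := y * (k * x) * y⁻¹ with hzdef
  have hz' : z ∈ pairStab hmax.1.1.2 := hz
  set m := p ^ (orderOf z).factorization p with hm
  have hreg : IsPRegular p (z ^ m) := by
    rw [IsPRegular, orderOf_pow, Nat.gcd_eq_right (Nat.ordProj_dvd _ p)]
    exact Nat.not_dvd_ordCompl (Fact.out : p.Prime) (orderOf_pos z).ne'
  have hzC := hstab _ (pow_mem hz' m) hreg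
  have hQb : Q ≤ b.1 := hc1 ▸ pairLE_fst_le hle
  have hkxC : (k * x) ^ m ∈ Subgroup.centralizer (Q : Set G) := by
    refine BrauerMap.centralizer_anti hQb ?_
    haveI := hn
    have h := (inferInstance : (Subgroup.centralizer (b.1 : Set G)).Normal).conj_mem _ hzC y⁻¹
    rw [hzdef, conj_pow] at h
    simpa [mul_assoc] using h
  set C := Subgroup.centralizer (Q : Set G) with hC
  have hxC : x ∈ Subgroup.normalizer (C : Set G) :=
    BrauerMap.normalizer_le_normalizer_centralizer' Q hxN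
  have hpow : ∀ j : ℕ, ∃ d ∈ C, (k * x) ^ j = d * x ^ j := by
    intro j
    induction j with
    | zero => exact ⟨1, one_mem _, by simp⟩
    | succ j hj =>
      obtain ⟨d, hd, hdj⟩ := hj
      refine ⟨d * (x ^ j * k * (x ^ j)⁻¹),
        mul_mem hd ((Subgroup.mem_normalizer_iff.1 (pow_mem hxC j) k).1 hk), ?_⟩
      rw [pow_succ, hdj, pow_succ]
      group
  obtain ⟨d, hd, hdm⟩ := hpow m
  have hxm : x ^ m ∈ C := by
    rw [hdm] at hkxC
    exact (Subgroup.mul_mem_cancel_left C hd).1 hkxC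
  obtain ⟨t, ht⟩ := exists_pow_eq_self_of_coprime
    ((((Fact.out : p.Prime).coprime_iff_not_dvd.2 hxr)).pow_left ((orderOf z).factorization p))
  rw [← ht]
  exact pow_mem hxm t

end Cfsg.Agent.Lib.EqualDegree
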