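import Cfsg.Agent.Lib.EqualDegree.NormalCriterion
import Cfsg.Agent.Lib.EqualDegree.Main
import Cfsg.Agent.Lib.BlockUnion.Quotient
import Cfsg.Agent.Lib.BrauerMap.CentralQuotient
import Cfsg.Agent.Lib.Blocks.Covering
import Cfsg.Agent.Lib.Blocks.Reynolds
import Cfsg.Agent.Lib.Coprime.Quotient
import Cfsg.Agent.Lib.PGroup.Frattini
import Mathlib

/-!
# Blocks with normal defect group and one degree in height zero

Modulo the derived subgroup of the defect group all characters of the block have height zero, so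
the quotient block has abelian defect group and equal degrees; its inertial group acts trivially
on the abelianised defect group.
-/

set_option autoImplicit false
set_option linter.unusedSectionVars false
set_option linter.style.haveILetI false

namespace Cfsg.Agent.Lib.EqualDegree

open Cfsg
open Cfsg.Agent.Lib
open Cfsg.Agent.Lib.Clifford (resFun)
open Cfsg.Agent.Lib.BrauerPairs
open scoped ComplexConjugate commutatorElement

universe u v

section Hom

variable {H : Type u} {H' : Type v} [Group H] [Group H'] {p : ℕ} [Fact p.Prime]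
  {π : H →* H'}

theorem orderOf_conj_eq (x g : H) : orderOf (x * g * x⁻¹) = orderOf g :=
  orderOf_injective (MulAut.conj x).toMonoidHom (MulAut.conj x).injective g

theorem eq_of_pRegular_of_map_eq (hker : IsPGroup p π.ker) {g g' : H} (hg : IsPRegular p g)
    (hg' : IsPRegular p g') (hc : ∀ q ∈ π.ker, Commute g q) (h : π g = π g') : g = g' := by
  have hp : p.Prime := Fact.out
  have hu : g⁻¹ * g' ∈ π.ker := by rw [MonoidHom.mem_ker, map_mul, map_inv, h, inv_mul_cancel]
  have hcu := hc _ hu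
  obtain ⟨k, hk⟩ := IsPGroup.iff_orderOf.mp hker ⟨_, hu⟩
  rw [← Subgroup.orderOf_coe] at hk
  have hdiv : orderOf (g⁻¹ * g') ∣ orderOf g' * orderOf g := by
    refine orderOf_dvd_of_pow_eq_one ?_
    have hpow : ∀ n : ℕ, g' ^ n = g ^ n * (g⁻¹ * g') ^ n := fun n => by
      rw [← hcu.mul_pow, mul_inv_cancel_left]
    have h1 := hpow (orderOf g' * orderOf g)
    have hg1 : g ^ (orderOf g' * orderOf g) = 1 := orderOf_dvd_iff_pow_eq_one.mp (dvd_mul_left _ _)
    have hg2 : g' ^ (orderOf g' * orderOf g) = 1 :=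
      orderOf_dvd_iff_pow_eq_one.mp (dvd_mul_right _ _)
    rw [hg1, hg2, one_mul] at h1
    exact h1.symm
  have h1 : orderOf (g⁻¹ * g') = 1 := Nat.eq_one_of_dvd_coprimes
    (((hp.coprime_iff_not_dvd.mpr hg').mul_right (hp.coprime_iff_not_dvd.mpr hg)).pow_left k)
    (hk ▸ dvd_rfl) hdiv
  exact inv_mul_eq_one.mp (orderOf_eq_one_iff.mp h1)

theorem exists_pRegular_preimage [Finite H] (hπ : Function.Surjective π) {q : H'}
    (hq : IsPRegular p q) : ∃ g : H, IsPRegular p g ∧ π g = q := by
  have hp : p.Prime := Fact.out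
  obtain ⟨x, rfl⟩ := hπ q
  set r := (orderOf x).factorization p
  obtain ⟨m, hm⟩ := exists_pow_eq_self_of_coprime
    ((hp.coprime_iff_not_dvd.mpr hq).pow_left r)
  refine ⟨(x ^ p ^ r) ^ m, fun hd => ?_, ?_⟩
  · have h1 := hd.trans (orderOf_pow_dvd m)
    rw [orderOf_pow, Nat.gcd_eq_right (Nat.ordProj_dvd _ p)] at h1
    exact Nat.not_dvd_ordCompl hp (orderOf_pos x).ne' h1
  · rw [map_pow, map_pow]; exact hm

theorem centralChar_comp_of_pRegular (hπ : Function.Surjective π) (hker : IsPGroup p π.ker)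
    (hcen : ∀ g : H, IsPRegular p g → ∀ q ∈ π.ker, Commute g q) (f : H' → ℂ) {g : H}
    (hg : IsPRegular p g) : centralChar (fun x : H => f (π x)) g = centralChar f (π g) := by
  have h1 : (Subgroup.centralizer ({π g} : Set H')).comap π =
      Subgroup.centralizer ({g} : Set H) := by
    ext x
    rw [Subgroup.mem_comap, Subgroup.mem_centralizer_singleton_iff,
      Subgroup.mem_centralizer_singleton_iff, ← map_mul, ← map_mul]
    refine ⟨fun h => ?_, fun h => by rw [h]⟩
    have hconj : IsPRegular p (x * g * x⁻¹) := by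
      rw [IsPRegular, orderOf_conj_eq]; exact hg
    have h2 : x * g * x⁻¹ = g := eq_of_pRegular_of_map_eq hker hconj hg (hcen _ hconj) (by
      rw [map_mul, h, ← map_mul, mul_inv_cancel_right])
    exact mul_inv_eq_iff_eq_mul.mp h2
  simp only [centralChar, ← h1, Subgroup.index_comap_of_surjective _ hπ, map_one]

end Hom

variable {G : Type u} [Group G] [Fintype G] {p : ℕ} [Fact p.Prime] {M : Ideal AlgInt} [M.IsPrime]

/-- The block of a constituent on the centralizer of a normal `p`-subgroup is a pair of the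
block. -/
theorem isBrauerPairOf_constituent (hM : IsPModular p M) {P : Subgroup G} [P.Normal]
    (hP : IsPGroup p P) [Fintype (Subgroup.centralizer (P : Set G))] {B : Set (IrrCharacter G)}
    (hB : IsPBlock M B) {χ : IrrCharacter G} (hχ : χ ∈ B)
    {θ : IrrCharacter (Subgroup.centralizer (P : Set G))}
    (hθ : classInner (resFun (Subgroup.centralizer (P : Set G)) (χ : G → ℂ))
      (θ : Subgroup.centralizer (P : Set G) → ℂ) ≠ 0) :
    IsBrauerPairOf p M B P (blockOf M (θ : Subgroup.centralizer (P : Set G) → ℂ)) := by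
  classical
  refine ⟨⟨hP, Blocks.isPBlock_blockOf θ⟩, hB, fun ξ hξ => ?_⟩
  have hval : ∑ c : Subgroup.centralizer (P : Set G),
      blockCoeff B (c : G) * (θ : Subgroup.centralizer (P : Set G) → ℂ) c /
        (θ : Subgroup.centralizer (P : Set G) → ℂ) 1 = 1 := by
    rw [← Blocks.Covering.sum_normal_mul_div_eq (fun g h => Blocks.blockCoeff_conj B g h) χ θ hθ,
      ← Blocks.Covering.sum_eq_sum_normal (N := Subgroup.centralizer (P : Set G))
        (f := fun g => blockCoeff B g * (χ : G → ℂ) g / (χ : G → ℂ) 1) (fun g hg => by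
          simp [BrauerMap.blockCoeff_eq_zero_of_notMem_centralizer hM hP hB hg]),
      Blocks.Covering.sum_blockCoeff_eq_ite, if_pos hχ]
  have hcf : IsClassFunction (Subgroup.centralizer (P : Set G))
      (fun c => blockCoeff B (c : G)) := fun x y => by
    simpa using Blocks.blockCoeff_conj B (x : G) (y : G)
  have h := Blocks.HeightZero.eval_congr_self (M := M) hcf
    (fun c => Blocks.memLocalRing_blockCoeff hB _) (Chars.irr_isClassFunction ξ)
    (Chars.irr_isClassFunction θ) (Blocks.sameBlock_symm (Blocks.mem_blockOf.1 hξ))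
  rw [hval] at h
  rw [brauerOmega, finsum_eq_sum_of_fintype]
  exact h

theorem classInner_comp_mulEquiv {H H' : Type u} [Group H] [Group H'] [Fintype H] [Fintype H']
    (e : H ≃* H') (φ ψ : H' → ℂ) :
    classInner (fun x => φ (e x)) (fun x => ψ (e x)) = classInner φ ψ :=
  Chars.classInner_comp_of_surjective e.toMonoidHom e.surjective φ ψ

/-- A constituent of the inflation lies below a constituent in the quotient. -/
theorem exists_constituent_between {H H' : Type u} [Group H] [Group H'] [Fintype H] [Fintype H']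
    (π : H →* H') {f : H' → ℂ} (hf : IsCharacter H' f) {θ : H → ℂ}
    (hθ : classInner (fun x => f (π x)) θ ≠ 0) :
    ∃ ψ : IrrCharacter H', classInner f (ψ : H' → ℂ) ≠ 0 ∧
      classInner (fun x => (ψ : H' → ℂ) (π x)) θ ≠ 0 := by
  classical
  by_contra! hno
  refine hθ ?_
  have h1 : (fun x => f (π x)) = ∑ ψ : IrrCharacter H',
      classInner f (ψ : H' → ℂ) • (fun x => (ψ : H' → ℂ) (π x)) := by
    funext x
    have h2 := congrFun (Chars.isCharacter_eq_sum_classInner hf) (π x)
    simpa only [Finset.sum_apply, Pi.smul_apply] using h2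
  rw [h1, Chars.classInner_sum_left]
  refine Finset.sum_eq_zero fun ψ _ => ?_
  rw [Chars.classInner_smul_left]
  by_cases h : classInner f (ψ : H' → ℂ) = 0
  · rw [h, zero_mul]
  · rw [hno ψ h, mul_zero]

variable {B : Set (IrrCharacter G)} {D : Subgroup G} {d : ℕ}

theorem charDegree_inflate (N : Subgroup G) [N.Normal] (χ : IrrCharacter (G ⧸ N)) :
    charDegree (Chars.inflate N χ : G → ℂ) = charDegree (χ : G ⧸ N → ℂ) := by
  show ⌊((χ : G ⧸ N → ℂ) ((1 : G) : G ⧸ N)).re⌋₊ = _
  rw [QuotientGroup.mk_one]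
  rfl

/-- A `p`-regular element acting trivially modulo the derived subgroup centralizes. -/
theorem mem_centralizer_of_trivial_mod [D.Normal] (hD : IsPGroup p D) {k : G}
    (hk : IsPRegular p k) (htriv : ∀ w ∈ D, k * w * k⁻¹ * w⁻¹ ∈ (commutator D).map D.subtype) :
    k ∈ Subgroup.centralizer (D : Set G) := by
  have hle : Subgroup.zpowers k ≤ Subgroup.centralizer (D : Set G) := by
    refine Coprime.le_centralizer_of_frattini (Subgroup.normalizer_eq_top (H := D) ▸ le_top) ?_ ?_
    · obtain ⟨n, hn⟩ := IsPGroup.iff_card.1 (hD.to_subgroup (frattini D))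
      rw [hn, Nat.card_zpowers]
      exact (((Fact.out : p.Prime).coprime_iff_not_dvd.2 hk).pow_left n).symm
    · intro a ha w hw
      set N := (commutator D).map D.subtype
      suffices h : Subgroup.zpowers k ≤ (Subgroup.centralizer ((D.map (QuotientGroup.mk' N) :
          Subgroup (G ⧸ N)) : Set (G ⧸ N))).comap (QuotientGroup.mk' N) by
        refine Subgroup.map_mono (PFrattini.commutator_le_frattini hD) ?_
        have h1 := Subgroup.mem_centralizer_iff.1 (h ha) _ ⟨w, hw, rfl⟩
        rw [← QuotientGroup.eq_one_iff]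
        simp only [QuotientGroup.mk'_apply] at h1
        rw [QuotientGroup.mk_mul, QuotientGroup.mk_mul, QuotientGroup.mk_mul, QuotientGroup.mk_inv,
          QuotientGroup.mk_inv, ← h1, mul_inv_cancel_right, mul_inv_cancel]
      rw [Subgroup.zpowers_le]
      refine Subgroup.mem_centralizer_iff.2 ?_
      rintro _ ⟨v, hv, rfl⟩
      have h1 : QuotientGroup.mk' N (k * v * k⁻¹ * v⁻¹) = 1 :=
        (QuotientGroup.eq_one_iff _).2 (htriv v hv)
      rw [map_mul, map_mul, map_mul, map_inv, map_inv, mul_inv_eq_one, mul_inv_eq_iff_eq_mul] at h1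
      exact h1.symm
  exact hle (Subgroup.mem_zpowers k)

/-- The characters of a block of the quotient by the derived defect group have height zero. -/
theorem blockHeight_inflate (hM : IsPModular p M) (hB : IsPBlock M B)
    (hD : IsDefectGroup p M B D) [D.Normal] (N : Subgroup G) [N.Normal]
    (hN : N ≤ D) (hab : ∀ x ∈ D, ∀ y ∈ D, x * y * x⁻¹ * y⁻¹ ∈ N)
    {χ : IrrCharacter (G ⧸ N)} (hχ : Chars.inflate N χ ∈ B) :
    blockHeight p B (Chars.inflate N χ : G → ℂ) = 0 := by
  classical
  set E := D.map (QuotientGroup.mk' N) with hE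
  haveI : E.Normal := Subgroup.Normal.map inferInstance _ (QuotientGroup.mk'_surjective N)
  haveI : Fintype E := Fintype.ofFinite E
  haveI : Fintype (G ⧸ N) := Fintype.ofFinite _
  obtain ⟨θ, hθ⟩ := Blocks.Covering.exists_constituent (N := E) χ
  obtain ⟨x, hx, hdeg⟩ := Blocks.Reynolds.exists_dvd_index_degree E χ θ hθ
  have hlin : charDegree (θ : E → ℂ) = 1 := by
    haveI : IsMulCommutative E := ⟨⟨fun a b => by
      obtain ⟨u, hu, hua⟩ := a.2
      obtain ⟨w, hw, hwb⟩ := b.2
      refine Subtype.ext ?_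
      rw [Subgroup.coe_mul, Subgroup.coe_mul, ← hua, ← hwb]
      have h1 : QuotientGroup.mk' N (u * w * u⁻¹ * w⁻¹) = 1 :=
        (QuotientGroup.eq_one_iff _).2 (hab u hu w hw)
      rw [map_mul, map_mul, map_mul, map_inv, map_inv, mul_inv_eq_one, mul_inv_eq_iff_eq_mul] at h1
      exact h1⟩⟩
    have h2 := (Blocks.HeightZero.charDegree_eq θ).1
    rw [Chars.irr_apply_one_of_comm] at h2
    exact_mod_cast h2
  have hidx : E.index = D.index := by
    rw [hE, Subgroup.index_map, (QuotientGroup.mk' N).range_eq_top.2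
      (QuotientGroup.mk'_surjective N), Subgroup.index_top, mul_one, QuotientGroup.ker_mk',
      sup_eq_left.2 hN]
  rw [hlin, one_mul] at hdeg
  have hdvd : charDegree (Chars.inflate N χ : G → ℂ) ∣ D.index := by
    rw [charDegree_inflate, hdeg, ← hidx]; exact hx
  have hp : p.Prime := Fact.out
  have h1 := (Nat.factorization_le_iff_dvd (Blocks.HeightZero.charDegree_eq _).2
    Subgroup.index_ne_zero_of_finite).2 hdvd p
  have h2 := BrauerFeit.factorization_add_defect (p := p) hχ
  have h3 := congrArg (fun n => n.factorization p) (Subgroup.card_mul_index D)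
  rw [Nat.factorization_mul Nat.card_pos.ne' Subgroup.index_ne_zero_of_finite, Finsupp.add_apply,
    BrauerFeit.card_defectGroup hM hB hD, hp.factorization_pow, Finsupp.single_eq_same] at h3
  omega

/-- The stabilizer of the maximal pair of a block with normal defect group and one degree in
height zero acts on the defect group as a `p`-group. -/
theorem exists_maximal_fixed_of_equal_height_zero (hM : IsPModular p M) (hB : IsPBlock M B)
    (hD : IsDefectGroup p M B D) [D.Normal]
    (hd : ∀ χ : IrrCharacter G, χ ∈ B → blockHeight p B (χ : G → ℂ) = 0 →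
      charDegree (χ : G → ℂ) = d) :
    ∃ e : Set (IrrCharacter (Subgroup.centralizer (D : Set G))),
      IsMaximalBrauerPair p M B D e ∧
      ∀ z : G, conjPair z (⟨D, e⟩ : BrauerPairIdx G) = ⟨D, e⟩ → IsPRegular p z →
        z ∈ Subgroup.centralizer (D : Set G) := by
  classical
  haveI : M.IsMaximal := hM.2.1
  obtain ⟨e₀, he₀⟩ := KernelCore.exists_pair_at_defectGroup hM hB hD
  have hDp : IsPGroup p D := he₀.1.1
  set N := (commutator D).map D.subtype with hNdef
  have hND : N ≤ D := Subgroup.map_subtype_le _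
  have hNp : IsPGroup p N := hDp.to_le hND
  haveI : N.Normal := by rw [hNdef]; infer_instance
  have hab : ∀ x ∈ D, ∀ y ∈ D, x * y * x⁻¹ * y⁻¹ ∈ N := fun x hx y hy =>
    ⟨⁅(⟨x, hx⟩ : D), ⟨y, hy⟩⁆,
      Subgroup.commutator_mem_commutator (Subgroup.mem_top _) (Subgroup.mem_top _), rfl⟩
  haveI : Fintype (G ⧸ N) := Fintype.ofFinite _
  obtain ⟨Bb, hBb, hsub, hdef⟩ := BlockUnion.exists_block_quot N hM hNp hB
  set E := D.map (QuotientGroup.mk' N) with hEdef
  have hE : IsDefectGroup p M Bb E := (hdef E).2 ⟨D, hD, rfl⟩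
  haveI : E.Normal := Subgroup.Normal.map inferInstance _ (QuotientGroup.mk'_surjective N)
  have hEp : IsPGroup p E := hDp.map _
  have hEab : ∀ x ∈ E, ∀ y ∈ E, x * y = y * x := by
    rintro _ ⟨u, hu, rfl⟩ _ ⟨w, hw, rfl⟩
    have h1 : QuotientGroup.mk' N (u * w * u⁻¹ * w⁻¹) = 1 :=
      (QuotientGroup.eq_one_iff _).2 (hab u hu w hw)
    rw [map_mul, map_mul, map_mul, map_inv, map_inv, mul_inv_eq_one, mul_inv_eq_iff_eq_mul] at h1
    exact h1
  have hdb : ∀ χ ∈ Bb, charDegree ((χ : IrrCharacter (G ⧸ N)) : G ⧸ N → ℂ) = d := fun χ hχ => by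
    rw [← charDegree_inflate]
    exact hd _ (hsub χ hχ) (blockHeight_inflate hM hB hD N hND hab (hsub χ hχ))
  obtain ⟨χb, hχb⟩ := Blocks.isPBlock_nonempty hBb
  set χ := Chars.inflate N χb with hχdef
  set C := Subgroup.centralizer (D : Set G) with hCdef
  set Kb := Subgroup.centralizer (E : Set (G ⧸ N)) with hKbdef
  haveI : Fintype C := Fintype.ofFinite C
  haveI : Fintype Kb := Fintype.ofFinite Kb
  obtain ⟨θ, hθ⟩ := Blocks.Covering.exists_constituent (N := C) χ
  have hpair := isBrauerPairOf_constituent hM hDp hB (hsub χb hχb) hθ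
  have hmax := KernelCore.isMaximal_of_defectGroup (a := ⟨D, blockOf M (θ : C → ℂ)⟩) hM hpair hD
  refine ⟨_, hmax, fun z hz hzr => mem_centralizer_of_trivial_mod hDp hzr fun w hw => ?_⟩
  set K := Kb.comap (QuotientGroup.mk' N) with hKdef
  haveI : Fintype K := Fintype.ofFinite K
  let π : K →* Kb := (QuotientGroup.mk' N).subgroupComap Kb
  have hπ : Function.Surjective π :=
    MonoidHom.subgroupComap_surjective_of_surjective _ _ (QuotientGroup.mk'_surjective N)
  have hπval : ∀ k : K, ((π k : Kb) : G ⧸ N) = QuotientGroup.mk' N (k : G) := fun k => rfl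
  have hCK : C ≤ K := fun c hc => Subgroup.mem_comap.2 (Subgroup.mem_centralizer_iff.2 fun q hq => by
    obtain ⟨u, hu, rfl⟩ := hq
    rw [← map_mul, ← map_mul, Subgroup.mem_centralizer_iff.1 hc u hu])
  have hregC : ∀ k : K, IsPRegular p k → (k : G) ∈ C := fun k hk => by
    refine mem_centralizer_of_trivial_mod hDp (by rwa [IsPRegular, Subgroup.orderOf_coe])
      fun v hv => (QuotientGroup.eq_one_iff _).1 ?_
    have h1 := Subgroup.mem_centralizer_iff.1 (Subgroup.mem_comap.1 k.2) _ ⟨v, hv, rfl⟩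
    simp only [QuotientGroup.mk'_apply] at h1
    rw [QuotientGroup.mk_mul, QuotientGroup.mk_mul, QuotientGroup.mk_mul, QuotientGroup.mk_inv,
      QuotientGroup.mk_inv, ← h1, mul_inv_cancel_right, mul_inv_cancel]
  have hkerN : ∀ q ∈ π.ker, (q : G) ∈ N := fun q hq => by
    have h1 := congrArg Subtype.val (MonoidHom.mem_ker.1 hq)
    exact (QuotientGroup.eq_one_iff _).1 h1
  have hker : IsPGroup p π.ker := fun q => by
    obtain ⟨k, hk⟩ := hNp ⟨_, hkerN q.1 q.2⟩
    exact ⟨k, Subtype.ext (Subtype.ext (by simpa using congrArg Subtype.val hk))⟩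
  have hcen : ∀ k : K, IsPRegular p k → ∀ q ∈ π.ker, Commute k q := fun k hk q hq =>
    Subtype.ext ((Subgroup.mem_centralizer_iff.1 (hregC k hk) _ (hND (hkerN q hq))).symm)
  -- a constituent in the quotient above θ
  have hresf : IsCharacter Kb (resFun Kb (χb : G ⧸ N → ℂ)) :=
    Chars.isCharacter_restrict Kb (Chars.irr_isCharacter χb)
  have hθ' : classInner (fun c : C => resFun Kb (χb : G ⧸ N → ℂ) (π (Subgroup.inclusion hCK c)))
      (θ : C → ℂ) ≠ 0 := hθ
  obtain ⟨ψ, hψ, hψθ⟩ := exists_constituent_between (π.comp (Subgroup.inclusion hCK)) hresf hθ'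
  have hmaxb := KernelCore.isMaximal_of_defectGroup (a := ⟨E, blockOf M (ψ : Kb → ℂ)⟩) hM
    (isBrauerPairOf_constituent hM hEp hBb hχb hψ) hE
  -- conjugation by z
  obtain ⟨hzN, hzst⟩ := (mem_pairStab_iff_stabilizesBlock (a := ⟨D, blockOf M (θ : C → ℂ)⟩)
    hmax.1.1.2).1 hz
  obtain ⟨hzC, hzimg⟩ := (BrauerMap.stabilizesBlock_iff hmax.1.1.2 z).1 hzst
  set θ' := Chars.irrCongr (BrauerMap.conjEquiv z hzC) θ with hθ'def
  have hθs : SameBlock M (θ : C → ℂ) (θ' : C → ℂ) := Blocks.mem_blockOf.1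
    (Eq.subset hzimg ⟨θ, Blocks.mem_blockOf_self θ, rfl⟩)
  haveI : Kb.Normal := by rw [hKbdef]; infer_instance
  haveI : K.Normal := by rw [hKdef]; infer_instance
  have hzK : z ∈ Subgroup.normalizer (K : Set G) := by
    rw [Subgroup.normalizer_eq_top]; exact Subgroup.mem_top _
  have hzKb : QuotientGroup.mk' N z ∈ Subgroup.normalizer (Kb : Set (G ⧸ N)) := by
    rw [Subgroup.normalizer_eq_top]; exact Subgroup.mem_top _
  set ψ' := Chars.irrCongr (BrauerMap.conjEquiv (QuotientGroup.mk' N z) hzKb) ψ with hψ'def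
  let φ : IrrCharacter K :=
    ⟨fun k => (ψ : Kb → ℂ) (π k), Chars.isIrrCharacter_comp_surjective π hπ ψ.2⟩
  let φ' : IrrCharacter K :=
    ⟨fun k => (ψ' : Kb → ℂ) (π k), Chars.isIrrCharacter_comp_surjective π hπ ψ'.2⟩
  let CK : Subgroup K := C.subgroupOf K
  let ι : CK ≃* C := Subgroup.subgroupOfEquivOfLe hCK
  haveI : CK.Normal := Subgroup.Normal.subgroupOf inferInstance K
  haveI : Fintype CK := Fintype.ofFinite CK
  let f : C → ℂ := fun c => (ψ : Kb → ℂ) (π (Subgroup.inclusion hCK c))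
  let f' : C → ℂ := fun c => (ψ' : Kb → ℂ) (π (Subgroup.inclusion hCK c))
  have hrel : classInner (resFun CK (φ : K → ℂ)) (Chars.irrCongr ι θ : CK → ℂ) ≠ 0 :=
    Eq.trans_ne (classInner_comp_mulEquiv ι f (θ : C → ℂ)) hψθ
  have hrel' : classInner (resFun CK (φ' : K → ℂ)) (Chars.irrCongr ι θ' : CK → ℂ) ≠ 0 := by
    refine Eq.trans_ne (classInner_comp_mulEquiv ι f' (θ' : C → ℂ)) ?_
    rw [show f' = fun c => f (BrauerMap.conjEquiv z hzC c) from funext fun c => by
      show (ψ : Kb → ℂ) _ = (ψ : Kb → ℂ) _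
      refine congrArg _ (Subtype.ext ?_)
      show (QuotientGroup.mk' N z)⁻¹ * QuotientGroup.mk' N (c : G) * QuotientGroup.mk' N z =
        QuotientGroup.mk' N (z⁻¹ * (c : G) * z)
      rw [map_mul, map_mul, map_inv]]
    exact Eq.trans_ne (classInner_comp_mulEquiv (BrauerMap.conjEquiv z hzC) f (θ : C → ℂ)) hψθ
  have hψs : SameBlock M (ψ : Kb → ℂ) (ψ' : Kb → ℂ) := by
    refine BrauerMap.sameBlock_of_agree_pRegular hM fun q hq => ?_
    obtain ⟨k, hk, rfl⟩ := exists_pRegular_preimage hπ hq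
    rw [← centralChar_comp_of_pRegular hπ hker hcen (ψ : Kb → ℂ) hk,
      ← centralChar_comp_of_pRegular hπ hker hcen (ψ' : Kb → ℂ) hk]
    show MemLocalIdeal M (centralChar (φ : K → ℂ) ((⟨k, hregC k hk⟩ : CK) : K) -
      centralChar (φ' : K → ℂ) ((⟨k, hregC k hk⟩ : CK) : K))
    rw [Blocks.Covering.centralChar_eq_inducedCentralChar φ _ hrel,
      Blocks.Covering.centralChar_eq_inducedCentralChar φ' _ hrel']
    exact Blocks.Covering.inducedCentralChar_congr ((BrauerMap.sameBlock_irrCongr ι θ θ').2 hθs) _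
  have hstab : AbelianStar.InStab (⟨E, blockOf M (ψ : Kb → ℂ)⟩ : BrauerPairIdx (G ⧸ N))
      (QuotientGroup.mk' N z) := by
    refine (AbelianStar.inStab_iff hmaxb.1.1.2).2 ((mem_pairStab_iff_stabilizesBlock
      (a := ⟨E, blockOf M (ψ : Kb → ℂ)⟩) hmaxb.1.1.2).2
      ⟨by rw [Subgroup.normalizer_eq_top]; exact Subgroup.mem_top _, ?_⟩)
    refine (BrauerMap.stabilizesBlock_iff hmaxb.1.1.2 _).2 ⟨hzKb, ?_⟩
    exact Blocks.isPBlock_eq_of_mem (BrauerMap.isPBlock_image_irrCongr _ hmaxb.1.1.2)
      hmaxb.1.1.2 ⟨ψ, Blocks.mem_blockOf_self ψ, rfl⟩ (Blocks.mem_blockOf.2 hψs)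
  have hfix := fixed_of_equal_degrees (b := ⟨E, blockOf M (ψ : Kb → ℂ)⟩) hM hmaxb hEab hdb hstab
    (QuotientGroup.mk' N w) ⟨w, hw, rfl⟩
  rw [← QuotientGroup.eq_one_iff]
  simp only [QuotientGroup.mk'_apply] at hfix
  rw [QuotientGroup.mk_mul, QuotientGroup.mk_mul, QuotientGroup.mk_mul, QuotientGroup.mk_inv,
    QuotientGroup.mk_inv, hfix, mul_inv_cancel]

end Cfsg.Agent.Lib.EqualDegree
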